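import Cfsg.Agent.H24.CyclicIntersect
import Cfsg.Agent.Components.CyclicSylow
import Cfsg.Agent.Coprime.Generation
import Cfsg.Agent.Cores.Fitting
import Cfsg.Agent.Cores.Constrained
import Cfsg.Agent.S0205

/-!
# Groups in which distinct Sylow 2-subgroups meet in cyclic groups: involutions

A non-cyclic 2-subgroup lies in one Sylow 2-subgroup. Hence the fusion of involutions is controlled by
the normaliser of a Sylow 2-subgroup, and an involution centralised by an elementary group of order 8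
with solvable centraliser lies in one Sylow 2-subgroup.
-/

set_option autoImplicit false
set_option linter.style.haveILetI false

namespace Cfsg.Agent.H60.CycInt

open Subgroup Cfsg.Agent.H24.CycInt
open scoped Pointwise

local instance : Fact (Nat.Prime 2) := ⟨Nat.prime_two⟩

universe u

/-- No nontrivial solvable normal subgroup. -/
def RadFree (G : Type*) [Group G] : Prop :=
  ∀ N : Subgroup G, N.Normal → Group.IsSolvable N → N = ⊥

theorem solvable_odd {H : Type u} [Group H] [Finite H] (h : Odd (Nat.card H)) : Group.IsSolvable H :=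
  S0205.result h

theorem commute_iff_mem {G : Type*} [Group G] {g u : G} :
    g ∈ centralizer ({u} : Set G) ↔ Commute g u :=
  mem_centralizer_singleton_iff

theorem orderOf_inv_conj {G : Type*} [Group G] (g x : G) :
    orderOf (g * x * g⁻¹) = orderOf x :=
  MulEquiv.orderOf_eq (MulAut.conj g) x

theorem not_cyclic_of_two {G : Type*} [Group G] [Finite G] {P : Subgroup G} {a b : G}
    (ha : a ∈ P) (hb : b ∈ P) (ha2 : orderOf a = 2) (hb2 : orderOf b = 2) (hab : a ≠ b) :
    ¬ IsCyclic P := by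
  intro hc
  haveI := hc
  have hz : orderOf (⟨a, ha⟩ : P) = 2 := by rw [Subgroup.orderOf_mk, ha2]
  have hy : (⟨b, hb⟩ : P) ^ 2 = 1 := Subtype.ext (by
    rw [Subgroup.coe_pow, ← hb2, pow_orderOf_eq_one]; rfl)
  obtain ⟨i, hi⟩ := mem_zpowers_iff.mp (Components.mem_zpowers_of_pow_eq_one (p := 2) hz hy)
  have hi' : a ^ i = b := by simpa using congrArg Subtype.val hi
  have ha' : a * a = 1 := by rw [← pow_two, ← ha2, pow_orderOf_eq_one]
  rcases Int.even_or_odd i with ⟨j, rfl⟩ | ⟨j, rfl⟩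
  · rw [← two_mul, zpow_mul, zpow_two, ha', one_zpow] at hi'
    rw [← hi', orderOf_one] at hb2; exact absurd hb2 (by norm_num)
  · rw [zpow_add, zpow_mul, zpow_two, ha', one_zpow, one_mul, zpow_one] at hi'
    exact hab hi'

theorem exists_invol {G : Type*} [Group G] [Finite G] {P : Subgroup G} (hP : IsPGroup 2 P)
    (h1 : P ≠ ⊥) : ∃ x ∈ P, orderOf x = 2 := by
  haveI : Nontrivial P := (nontrivial_iff_ne_bot _).mpr h1
  obtain ⟨n, hn, hc⟩ := hP.nontrivial_iff_card.mp inferInstance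
  obtain ⟨x, hx⟩ := exists_prime_orderOf_dvd_card' (G := P) 2 (hc ▸ dvd_pow_self 2 hn.ne')
  exact ⟨x, x.2, by rw [Subgroup.orderOf_coe, hx]⟩

theorem sylow_ne_bot_of_not_cyclic {G : Type*} [Group G] {S : Subgroup G} (hS : ¬ IsCyclic S) :
    S ≠ ⊥ := fun h => hS (by subst h; exact isCyclic_of_subsingleton)

theorem exists_central_invol {G : Type*} [Group G] [Finite G] (S : Sylow 2 G)
    (hS : (S : Subgroup G) ≠ ⊥) :
    ∃ z ∈ (S : Subgroup G), orderOf z = 2 ∧ ∀ s ∈ (S : Subgroup G), Commute s z := by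
  haveI : Nontrivial (S : Subgroup G) := (nontrivial_iff_ne_bot _).mpr hS
  haveI := S.isPGroup'.center_nontrivial
  obtain ⟨x, hx, hx2⟩ := exists_invol
    ((S.isPGroup'.to_subgroup (center (S : Subgroup G))).map (S : Subgroup G).subtype)
    (by
      rw [Ne, map_eq_bot_iff_of_injective _ (S : Subgroup G).subtype_injective]
      exact (nontrivial_iff_ne_bot _).mp inferInstance)
  obtain ⟨y, hy, rfl⟩ := hx
  exact ⟨(y : G), y.2, hx2, fun s hs =>
    congrArg Subtype.val (mem_center_iff.mp hy ⟨s, hs⟩)⟩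

section Sylow

variable {G : Type u} [Group G] [Finite G] (h : CI G)
include h

/-- A non-cyclic 2-subgroup lies in one Sylow 2-subgroup. -/
theorem eq_of_le {P : Subgroup G} (hP : ¬ IsCyclic P) {S T : Sylow 2 G}
    (hS : P ≤ (S : Subgroup G)) (hT : P ≤ (T : Subgroup G)) : S = T := by
  by_contra hne
  exact hP (H24.CycInt.isCyclic_of_le (le_inf hS hT) (h S T hne))

theorem smul_eq_of_normalizes {P : Subgroup G} (hP : ¬ IsCyclic P) {S : Sylow 2 G}
    (hS : P ≤ (S : Subgroup G)) {g : G} (hg : ∀ x ∈ P, g⁻¹ * x * g ∈ P) : g • S = S :=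
  eq_of_le h hP (fun x hx => H24.CycInt.mem_smul_iff.mpr (hS (hg x hx))) hS

theorem mem_normalizer_of_normalizes {P : Subgroup G} (hP : ¬ IsCyclic P) {S : Sylow 2 G}
    (hS : P ≤ (S : Subgroup G)) {g : G} (hg : ∀ x ∈ P, g⁻¹ * x * g ∈ P) :
    g ∈ normalizer ((S : Subgroup G) : Set G) :=
  Sylow.smul_eq_iff_mem_normalizer.mp (smul_eq_of_normalizes h hP hS hg)

theorem mem_normalizer_of_centralizes {P : Subgroup G} (hP : ¬ IsCyclic P) {S : Sylow 2 G}
    (hS : P ≤ (S : Subgroup G)) {g : G} (hg : ∀ x ∈ P, Commute g x) :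
    g ∈ normalizer ((S : Subgroup G) : Set G) :=
  mem_normalizer_of_normalizes h hP hS fun x hx => by
    rwa [mul_assoc, ← (hg x hx).eq, inv_mul_cancel_left]

omit h in
theorem not_cyclic_inf_centralizer {S : Sylow 2 G} (hS : ¬ IsCyclic (S : Subgroup G)) {u : G}
    (hu : orderOf u = 2) (huS : u ∈ (S : Subgroup G)) :
    ¬ IsCyclic ↥((S : Subgroup G) ⊓ centralizer ({u} : Set G)) := by
  obtain ⟨z, hzS, hz, hzc⟩ := exists_central_invol S (sylow_ne_bot_of_not_cyclic hS)
  rcases eq_or_ne u z with rfl | hne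
  · rwa [inf_eq_left.mpr fun s hs => commute_iff_mem.mpr (hzc s hs)]
  · exact not_cyclic_of_two ⟨huS, commute_iff_mem.mpr (Commute.refl u)⟩
      ⟨hzS, commute_iff_mem.mpr (hzc u huS).symm⟩ hu hz hne

/-- The centraliser of an involution is transitive on the Sylow 2-subgroups containing it. -/
theorem exists_smul_eq_of_mem {S T : Sylow 2 G} (hS : ¬ IsCyclic (S : Subgroup G)) {u : G}
    (hu : orderOf u = 2) (huS : u ∈ (S : Subgroup G)) (huT : u ∈ (T : Subgroup G)) :
    ∃ c : G, Commute c u ∧ c • S = T := by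
  have hT : ¬ IsCyclic (T : Subgroup G) := fun hc => hS (Components.isCyclic_sylow hc S)
  set C := centralizer ({u} : Set G) with hC
  obtain ⟨A, hA⟩ := (S.isPGroup'.comap_subtype (K := C)).exists_le_sylow
  obtain ⟨B, hB⟩ := (T.isPGroup'.comap_subtype (K := C)).exists_le_sylow
  have key : ∀ {R : Sylow 2 G} {X : Sylow 2 C}, ¬ IsCyclic (R : Subgroup G) → u ∈ (R : Subgroup G) →
      (R : Subgroup G).comap C.subtype ≤ (X : Subgroup C) →
      ∀ {U : Sylow 2 G}, (X : Subgroup C).map C.subtype ≤ (U : Subgroup G) → R = U := by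
    intro R X hR huR hX U hU
    refine eq_of_le h (not_cyclic_inf_centralizer hR hu huR) inf_le_left fun x hx => hU ?_
    exact ⟨⟨x, hx.2⟩, hX hx.1, rfl⟩
  obtain ⟨c, rfl⟩ := MulAction.exists_smul_eq C A B
  refine ⟨c, commute_iff_mem.mp c.2, (key hT huT hB (U := (c : G) • S) ?_).symm⟩
  obtain ⟨U, hU⟩ := (A.isPGroup'.map C.subtype).exists_le_sylow
  obtain rfl := key hS huS hA hU
  rintro _ ⟨x, hx, rfl⟩
  rw [SetLike.mem_coe, Sylow.coe_subgroup_smul] at hx
  obtain ⟨y, hy, rfl⟩ := hx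
  exact H24.CycInt.conj_mem_smul (hU ⟨y, hy, rfl⟩)

/-- Fusion of involutions in `S` is controlled by `N(S)`. -/
theorem exists_normalizer_conj {S : Sylow 2 G} (hS : ¬ IsCyclic (S : Subgroup G)) {u g : G}
    (hu : orderOf u = 2) (huS : u ∈ (S : Subgroup G)) (hg : g * u * g⁻¹ ∈ (S : Subgroup G)) :
    ∃ n ∈ normalizer ((S : Subgroup G) : Set G), n * u * n⁻¹ = g * u * g⁻¹ := by
  have hu' : u ∈ ((g⁻¹ • S : Sylow 2 G) : Subgroup G) :=
    H24.CycInt.mem_smul_iff.mpr (by rwa [inv_inv])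
  obtain ⟨c, hc, hcS⟩ := exists_smul_eq_of_mem h hS hu huS hu'
  refine ⟨g * c, Sylow.smul_eq_iff_mem_normalizer.mp (by rw [mul_smul, hcS, smul_inv_smul]), ?_⟩
  rw [mul_inv_rev, show g * c * u * (c⁻¹ * g⁻¹) = g * (c * u * c⁻¹) * g⁻¹ by group, hc.eq,
    mul_inv_cancel_right]

omit h in
theorem mem_normalizer_of_good {S : Sylow 2 G} {u : G} (hg : Good u) (huS : u ∈ (S : Subgroup G))
    {c : G} (hc : Commute c u) : c ∈ normalizer ((S : Subgroup G) : Set G) := by
  refine Sylow.smul_eq_iff_mem_normalizer.mp (hg _ _ ?_ huS)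
  exact H24.CycInt.mem_smul_iff.mpr (by rw [mul_assoc, ← hc.eq, inv_mul_cancel_left]; exact huS)

theorem good_of_centralizer_le {S : Sylow 2 G} (hS : ¬ IsCyclic (S : Subgroup G)) {u : G}
    (hu : orderOf u = 2) (huS : u ∈ (S : Subgroup G))
    (hle : ∀ c : G, Commute c u → c ∈ normalizer ((S : Subgroup G) : Set G)) : Good u := by
  suffices ∀ T : Sylow 2 G, u ∈ T → S = T from fun T T' hT hT' => (this T hT).symm.trans (this T' hT')
  intro T hT
  obtain ⟨c, hc, rfl⟩ := exists_smul_eq_of_mem h hS hu huS hT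
  exact (Sylow.smul_eq_iff_mem_normalizer.mpr (hle c hc)).symm

end Sylow

section Elem

set_option linter.unusedSectionVars false

variable {G : Type u} [Group G] [Finite G]

theorem sq_eq_one {x : G} (hx : orderOf x = 2) : x * x = 1 := by
  rw [← pow_two, ← hx, pow_orderOf_eq_one]

theorem orderOf_two {x : G} (h : x * x = 1) (h1 : x ≠ 1) : orderOf x = 2 :=
  orderOf_eq_prime (by rw [pow_two, h]) h1

/-- The four-group of two commuting involutions. -/
def fourSub (a b : G) (ha : a * a = 1) (hb : b * b = 1) (hab : Commute a b) : Subgroup G where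
  carrier := {x | x = 1 ∨ x = a ∨ x = b ∨ x = a * b}
  one_mem' := Or.inl rfl
  mul_mem' := by
    intro x y hx hy
    have e1 : ∀ z, a * (a * z) = z := fun z => by rw [← mul_assoc, ha, one_mul]
    have e2 : ∀ z, b * (b * z) = z := fun z => by rw [← mul_assoc, hb, one_mul]
    have e3 : ∀ z, b * (a * z) = a * (b * z) := fun z => by rw [← mul_assoc, ← hab.eq, mul_assoc]
    simp only [Set.mem_setOf_eq] at hx hy ⊢
    rcases hx with h | h | h | h <;> rcases hy with h' | h' | h' | h' <;>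
      simp [h, h', mul_assoc, e1, e2, e3, ha, hb, hab.symm.eq]
  inv_mem' := by
    intro x hx
    simp only [Set.mem_setOf_eq] at hx ⊢
    rcases hx with h | h | h | h
    · simp [h]
    · simp [h, inv_eq_of_mul_eq_one_right ha]
    · simp [h, inv_eq_of_mul_eq_one_right hb]
    · simp [h, inv_eq_of_mul_eq_one_right ha, inv_eq_of_mul_eq_one_right hb, hab.eq]

theorem mem_fourSub {a b x : G} {ha : a * a = 1} {hb : b * b = 1} {hab : Commute a b} :
    x ∈ fourSub a b ha hb hab ↔ x = 1 ∨ x = a ∨ x = b ∨ x = a * b := Iff.rfl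

theorem card_fourSub_le {a b : G} {ha : a * a = 1} {hb : b * b = 1} {hab : Commute a b} :
    Nat.card (fourSub a b ha hb hab) ≤ 4 := by
  classical
  refine le_trans (Nat.card_le_card_of_surjective
    (fun i : Fin 4 => (⟨![1, a, b, a * b] i, by fin_cases i <;> simp [mem_fourSub]⟩ :
      fourSub a b ha hb hab)) ?_) (by simp)
  rintro ⟨x, hx | hx | hx | hx⟩
  exacts [⟨0, Subtype.ext hx.symm⟩, ⟨1, Subtype.ext hx.symm⟩, ⟨2, Subtype.ext hx.symm⟩,
    ⟨3, Subtype.ext hx.symm⟩]

theorem fourSub_le {a b : G} {ha : a * a = 1} {hb : b * b = 1} {hab : Commute a b} {K : Subgroup G}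
    (hak : a ∈ K) (hbk : b ∈ K) : fourSub a b ha hb hab ≤ K := fun x hx => by
  rcases hx with rfl | rfl | rfl | rfl
  exacts [one_mem _, hak, hbk, mul_mem hak hbk]

theorem not_cyclic_of_sq {P : Subgroup G} (hsq : ∀ x ∈ P, x * x = 1) (h3 : 3 ≤ Nat.card P) :
    ¬ IsCyclic P := by
  intro hc
  obtain ⟨g, hg⟩ := hc.exists_zpow_surjective
  have h2 : orderOf g ∣ 2 :=
    orderOf_dvd_of_pow_eq_one (Subtype.ext (by rw [Subgroup.coe_pow, pow_two, hsq _ g.2]; rfl))
  have : Nat.card P ≤ 2 := by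
    rw [← orderOf_eq_card_of_forall_mem_zpowers (g := g) fun x => mem_zpowers_iff.mpr (hg x)]
    exact Nat.le_of_dvd two_pos h2
  omega

/-- The odd subgroups normalised by an elementary group `E` of order 8 in `S` and centralised by an
involution of `E` normalise `S`. -/
theorem le_normalizer_of_elem (h : CI G) {S : Sylow 2 G} {E O : Subgroup G}
    (hE : E ≤ (S : Subgroup G)) (hsq : ∀ x ∈ E, x * x = 1) (h8 : 8 ≤ Nat.card E)
    {u : G} (hu : orderOf u = 2) (huE : u ∈ E) (hOodd : Odd (Nat.card O))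
    (hN : E ≤ normalizer (O : Set G)) (hOu : ∀ o ∈ O, Commute o u) :
    O ≤ normalizer ((S : Subgroup G) : Set G) := by
  classical
  have hcomm : ∀ x ∈ E, ∀ y ∈ E, Commute x y := by
    intro x hx y hy
    have e1 : x⁻¹ = x := inv_eq_of_mul_eq_one_right (hsq x hx)
    have e2 : y⁻¹ = y := inv_eq_of_mul_eq_one_right (hsq y hy)
    have e3 : (x * y)⁻¹ = x * y := inv_eq_of_mul_eq_one_right (hsq _ (mul_mem hx hy))
    rw [mul_inv_rev, e1, e2] at e3
    exact e3.symm
  -- a four-group missing `u`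
  obtain ⟨a, haE, ha⟩ : ∃ a ∈ E, a ∉ zpowers u := by
    by_contra hh
    push Not at hh
    have := Subgroup.card_le_of_le (K := zpowers u) hh
    rw [Nat.card_zpowers, hu] at this; omega
  set P : Subgroup G := fourSub u a (hsq u huE) (hsq a haE) (hcomm u huE a haE) with hP
  obtain ⟨b, hbE, hb⟩ : ∃ b ∈ E, b ∉ P := by
    by_contra hh
    push Not at hh
    have h1 := Subgroup.card_le_of_le (K := P) hh
    have h2 : Nat.card P ≤ 4 := card_fourSub_le
    omega
  set B : Subgroup G := fourSub a b (hsq a haE) (hsq b hbE) (hcomm a haE b hbE) with hB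
  have hBE : B ≤ E := fourSub_le haE hbE
  haveI : IsMulCommutative B := ⟨⟨fun x y => Subtype.ext (hcomm _ (hBE x.2) _ (hBE y.2)).eq⟩⟩
  have huP : u ∈ P := mem_fourSub.mpr (Or.inr (Or.inl rfl))
  have haP : a ∈ P := mem_fourSub.mpr (Or.inr (Or.inr (Or.inl rfl)))
  have hu1 : u ≠ 1 := fun e => by rw [e, orderOf_one] at hu; exact absurd hu (by norm_num)
  have huB : u ∉ B := by
    intro huB
    rcases mem_fourSub.mp huB with e | e | e | e
    · exact hu1 e
    · exact ha (e ▸ mem_zpowers u)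
    · exact hb (e ▸ huP)
    · exact hb (by
        rw [show b = a⁻¹ * u by rw [e, inv_mul_cancel_left]]
        exact mul_mem (inv_mem haP) huP)
  have haB : a ∈ B := mem_fourSub.mpr (Or.inr (Or.inl rfl))
  have hbB : b ∈ B := mem_fourSub.mpr (Or.inr (Or.inr (Or.inl rfl)))
  have hBnc : ¬ IsCyclic B := not_cyclic_of_two haB hbB
    (orderOf_two (hsq a haE) fun e => ha (e ▸ one_mem _))
    (orderOf_two (hsq b hbE) fun e => hb (e ▸ one_mem _)) fun e => hb (e ▸ haP)
  have hBp : IsPGroup 2 B := S.isPGroup'.to_le (hBE.trans hE)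
  refine Coprime.le_of_centralizer_noncyclic_le hBnc (hBE.trans hN) ?_ fun e he he1 o ho => ?_
  · obtain ⟨n, hn⟩ := IsPGroup.iff_card.mp hBp
    rw [hn]
    exact Nat.Coprime.pow_left n (Nat.coprime_two_left.mpr hOodd)
  · have hne : e ≠ u := fun e' => huB (e' ▸ he)
    refine mem_normalizer_of_centralizes h
      (P := closure {e, u}) (not_cyclic_of_two (subset_closure (by simp)) (subset_closure (by simp))
        (orderOf_two (hsq e (hBE he)) he1) hu hne)
      ((closure_le _).mpr (by rintro x (rfl | rfl); exacts [hE (hBE he), hE huE])) ?_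
    intro x hx
    have hle : closure {e, u} ≤ centralizer ({o} : Set G) := (closure_le _).mpr (by
      rintro y (rfl | rfl)
      · exact commute_iff_mem.mpr (commute_iff_mem.mp ho.2).symm
      · exact commute_iff_mem.mpr (hOu o ho.1).symm)
    exact (commute_iff_mem.mp (hle hx)).symm

/-- An odd subgroup normalised by a 2-element `s` of `S` and normalising `S` is centralised by `s`. -/
theorem commute_of_odd_normalizer {S : Sylow 2 G} {O : Subgroup G} (hOodd : Odd (Nat.card O))
    (hON : O ≤ normalizer ((S : Subgroup G) : Set G)) {s o : G} (hs : s ∈ (S : Subgroup G))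
    (hsN : s ∈ normalizer (O : Set G)) (ho : o ∈ O) : Commute o s := by
  have h1 : o * s * o⁻¹ * s⁻¹ ∈ O := by
    rw [show o * s * o⁻¹ * s⁻¹ = o * (s * o⁻¹ * s⁻¹) by group]
    exact mul_mem ho ((mem_normalizer_iff.mp hsN _).mp (inv_mem ho))
  have h2 : o * s * o⁻¹ * s⁻¹ ∈ (S : Subgroup G) :=
    mul_mem ((mem_normalizer_iff.mp (hON ho) _).mp hs) (inv_mem hs)
  have := Cores.disjoint_of_isPGroup_of_coprime S.isPGroup' (Nat.coprime_two_right.mpr hOodd)
  have hbot : o * s * o⁻¹ * s⁻¹ ∈ (S : Subgroup G) ⊓ O := ⟨h2, h1⟩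
  rw [this, mem_bot, mul_inv_eq_one, mul_inv_eq_iff_eq_mul] at hbot
  exact hbot

end Elem

end Cfsg.Agent.H60.CycInt
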