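import Cfsg.Agent.H76.PostBender.Trans
import Cfsg.Agent.H67.RankOneFix.SUThree
import Cfsg.Agent.H67.RankOneFix.SLTwo
import Cfsg.Agent.H72.PSUThree.Stab
import Cfsg.Agent.Suzuki.Structure
import Cfsg.Agent.Unitary.Center
import Cfsg.Agent.H60.CycInt.Basic

/-!
# The groups of Bender's list: elements of square one in a Sylow 2-subgroup

If `q` is the number of elements of square one in a Sylow 2-subgroup `P`, then `|P| ≤ q²` for `PSL₂`
and the Suzuki groups; for `PSU₃` one has `|P| ≤ q³` and a non-trivial element normalising two Sylow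
2-subgroups centralises the elements of square one of the first.
-/

set_option autoImplicit false
set_option linter.style.haveILetI false
set_option linter.unusedSectionVars false

namespace Cfsg.Agent.H60.CycInt

open Subgroup
open scoped Pointwise

local instance fact_two_models : Fact (Nat.Prime 2) := ⟨Nat.prime_two⟩

universe u

/-- The number of elements of square one in a subgroup. -/
noncomputable def sqCount {X : Type*} [Group X] (S : Subgroup X) : ℕ :=
  Nat.card {x : X // x ∈ S ∧ x * x = 1}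

/-- The type of `PSL₂` and the Suzuki groups. -/
def SmallSized (X : Type*) [Group X] : Prop :=
  ∀ P : Sylow 2 X, Nat.card (P : Subgroup X) ≤ sqCount (P : Subgroup X) ^ 2 ∧
    (sqCount (P : Subgroup X) = 4 → Nat.card (P : Subgroup X) = 4)

/-- The type of `PSU₃`. -/
def LargeSized (X : Type*) [Group X] : Prop :=
  (∀ P : Sylow 2 X, Nat.card (P : Subgroup X) ≤ sqCount (P : Subgroup X) ^ 3 ∧
    (sqCount (P : Subgroup X) = 4 → Nat.card (P : Subgroup X) = 64 ∧
      ∀ x ∈ (P : Subgroup X), x ^ 4 = 1)) ∧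
  ∃ (S T : Sylow 2 X) (k : X), T ≠ S ∧ k ≠ 1 ∧ k ∈ normalizer ((S : Subgroup X) : Set X) ∧
    k ∈ normalizer ((T : Subgroup X) : Set X) ∧
    ∀ x ∈ (S : Subgroup X), x * x = 1 → k * x * k⁻¹ = x

section Transfer

variable {K : Type*} [Group K] {X : Type*} [Group X]

theorem sqCount_smul (g : K) (W : Sylow 2 K) :
    sqCount ((g • W : Sylow 2 K) : Subgroup K) = sqCount (W : Subgroup K) := by
  refine (Nat.card_congr ((MulAut.conj g).toEquiv.subtypeEquiv fun x => ?_)).symm
  rw [Sylow.coe_subgroup_smul]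
  constructor
  · rintro ⟨hx, hx2⟩
    refine ⟨⟨x, hx, rfl⟩, ?_⟩
    show MulAut.conj g x * MulAut.conj g x = 1
    rw [← map_mul, hx2, map_one]
  · rintro ⟨⟨y, hy, e⟩, h2⟩
    obtain rfl : y = x := (MulAut.conj g).injective e
    refine ⟨hy, (MulAut.conj g).injective ?_⟩
    rw [map_mul, map_one]; exact h2

theorem card_smul (g : K) (W : Sylow 2 K) :
    Nat.card ((g • W : Sylow 2 K) : Subgroup K) = Nat.card (W : Subgroup K) := by
  rw [Sylow.coe_subgroup_smul]
  exact card_map_of_injective (MulAut.conj g).injective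

variable [Finite K] {π : K →* X} (hπ : Function.Surjective π) (hker : Odd (Nat.card π.ker))
include hπ hker

omit hπ in
theorem eq_one_of_ker {W : Sylow 2 K} {x : K} (hx : x ∈ (W : Subgroup K)) (h : π x = 1) : x = 1 := by
  have h1 : x ∈ (W : Subgroup K) ⊓ π.ker := ⟨hx, h⟩
  rwa [Cores.disjoint_of_isPGroup_of_coprime W.isPGroup' (Nat.coprime_two_right.mpr hker), mem_bot] at h1

omit hπ in
theorem injOn_sylow (W : Sylow 2 K) : Set.InjOn π (W : Subgroup K) := fun a ha b hb e =>
  inv_mul_eq_one.mp (eq_one_of_ker hker (mul_mem (inv_mem ha) hb)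
    (by rw [map_mul, map_inv, e, inv_mul_cancel]))

theorem card_map_sylow (W : Sylow 2 K) :
    Nat.card ((W.mapSurjective hπ : Sylow 2 X) : Subgroup X) = Nat.card (W : Subgroup K) := by
  rw [Sylow.coe_mapSurjective]
  exact (Nat.card_congr (Equiv.Set.imageOfInjOn π _ (injOn_sylow hker W))).symm

theorem sqCount_map (W : Sylow 2 K) :
    sqCount ((W.mapSurjective hπ : Sylow 2 X) : Subgroup X) = sqCount (W : Subgroup K) := by
  refine (Nat.card_congr (Equiv.ofBijective
    (fun x : {x : K // x ∈ (W : Subgroup K) ∧ x * x = 1} =>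
      (⟨π x.1, by rw [Sylow.coe_mapSurjective]; exact mem_map_of_mem π x.2.1,
        by rw [← map_mul, x.2.2, map_one]⟩ :
        {y : X // y ∈ ((W.mapSurjective hπ : Sylow 2 X) : Subgroup X) ∧ y * y = 1})) ⟨?_, ?_⟩)).symm
  · rintro ⟨a, ha, ha2⟩ ⟨b, hb, hb2⟩ e
    exact Subtype.ext (injOn_sylow hker W ha hb (congrArg Subtype.val e :))
  · rintro ⟨y, hy, hy2⟩
    rw [Sylow.coe_mapSurjective] at hy
    obtain ⟨x, hx, rfl⟩ := hy
    exact ⟨⟨x, hx, eq_one_of_ker hker (mul_mem hx hx) (by rw [map_mul, hy2])⟩, rfl⟩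

theorem small_of_surjective (W₀ : Sylow 2 K)
    (h : Nat.card (W₀ : Subgroup K) ≤ sqCount (W₀ : Subgroup K) ^ 2)
    (h4 : sqCount (W₀ : Subgroup K) = 4 → Nat.card (W₀ : Subgroup K) = 4) : SmallSized X := by
  intro P
  obtain ⟨W, rfl⟩ := Sylow.mapSurjective_surjective hπ 2 P
  obtain ⟨g, rfl⟩ := MulAction.exists_smul_eq K W₀ W
  rw [card_map_sylow hπ hker, sqCount_map hπ hker, card_smul, sqCount_smul]
  exact ⟨h, h4⟩

end Transfer

section Families

variable {F : Type} [Field F] [Fintype F]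

open Matrix in
theorem small_slTwo [CharP F 2] : ∃ W : Sylow 2 (Matrix.SpecialLinearGroup (Fin 2) F),
    Nat.card (W : Subgroup (Matrix.SpecialLinearGroup (Fin 2) F)) = Nat.card F ∧
      sqCount (W : Subgroup (Matrix.SpecialLinearGroup (Fin 2) F)) = Nat.card F := by
  obtain ⟨W, hW⟩ := (H67.RankOneFix.slGeom (p := 2) (F := F)).stab ![1, 0]
    (fun h => by have := congrFun h 0; simp at this)
  have hup : ∀ b : F, H67.RankOneFix.upEl b ∈ (W : Subgroup (Matrix.SpecialLinearGroup (Fin 2) F)) :=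
    fun b => (hW _).mpr (by
      show ((H67.RankOneFix.upEl b : Matrix.SpecialLinearGroup (Fin 2) F) :
        Matrix (Fin 2) (Fin 2) F) *ᵥ _ = _
      ext i; fin_cases i <;> simp [H67.RankOneFix.upEl, Matrix.mulVec, dotProduct, Fin.sum_univ_two])
  have hall : ∀ g ∈ (W : Subgroup (Matrix.SpecialLinearGroup (Fin 2) F)),
      ∃ b : F, H67.RankOneFix.upEl b = g := by
    intro g hg
    have h1 : (g : Matrix (Fin 2) (Fin 2) F) *ᵥ ![1, 0] = ![1, 0] := (hW g).mp hg
    have h00 := congrFun h1 0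
    have h10 := congrFun h1 1
    simp [Matrix.mulVec, dotProduct, Fin.sum_univ_two] at h00 h10
    have hdet := g.2
    rw [Matrix.det_fin_two, h00, h10] at hdet
    simp at hdet
    refine ⟨(g : Matrix (Fin 2) (Fin 2) F) 0 1, Subtype.ext ?_⟩
    ext i j
    fin_cases i <;> fin_cases j <;> simp [H67.RankOneFix.upEl, h00, h10, hdet]
  have hsq : ∀ b : F, H67.RankOneFix.upEl b * H67.RankOneFix.upEl b = 1 := fun b => by
    have := H67.RankOneFix.upEl_pow b 2
    rw [pow_two, CharP.cast_eq_zero F 2, zero_mul] at this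
    rw [this]
    apply Subtype.ext
    ext i j
    fin_cases i <;> fin_cases j <;> simp [H67.RankOneFix.upEl]
  have hinj : ∀ b c : F, H67.RankOneFix.upEl b = H67.RankOneFix.upEl c → b = c := fun b c e => by
    have := congrArg (fun g : Matrix.SpecialLinearGroup (Fin 2) F => (g : Matrix (Fin 2) (Fin 2) F) 0 1) e
    simpa [H67.RankOneFix.upEl] using this
  refine ⟨W, (Nat.card_congr (Equiv.ofBijective
    (fun b : F => (⟨_, hup b⟩ : (W : Subgroup (Matrix.SpecialLinearGroup (Fin 2) F))))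
      ⟨fun b c e => hinj b c (congrArg Subtype.val e), fun g => ?_⟩)).symm,
    (Nat.card_congr (Equiv.ofBijective
      (fun b : F => (⟨_, hup b, hsq b⟩ : {x // x ∈ (W : Subgroup
          (Matrix.SpecialLinearGroup (Fin 2) F)) ∧ x * x = 1}))
      ⟨fun b c e => hinj b c (congrArg Subtype.val e), fun g => ?_⟩)).symm⟩
  · obtain ⟨b, hb⟩ := hall g g.2
    exact ⟨b, Subtype.ext hb⟩
  · obtain ⟨b, hb⟩ := hall g.1 g.2.1
    exact ⟨b, Subtype.ext hb⟩

theorem small_sz {m : ℕ} [Suzuki.SzField F m] (hm : 1 ≤ m) : ∃ W : Sylow 2 (Cfsg.Sz F m),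
    Nat.card (W : Subgroup (Cfsg.Sz F m)) ≤ sqCount (W : Subgroup (Cfsg.Sz F m)) ^ 2 ∧
      8 ≤ sqCount (W : Subgroup (Cfsg.Sz F m)) := by
  refine ⟨Suzuki.sylowU (F := F) m, ?_⟩
  have hle : Nat.card F ≤
      sqCount ((Suzuki.sylowU (F := F) m : Sylow 2 (Cfsg.Sz F m)) : Subgroup (Cfsg.Sz F m)) := by
    refine Nat.card_le_card_of_injective
      (fun b : F => (⟨Suzuki.u m 0 b, Suzuki.u_mem_U m 0 b, by
        rw [Suzuki.u_sq, mul_zero]
        exact (Suzuki.u_eq_one m).mpr ⟨rfl, rfl⟩⟩ :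
        {x // x ∈ ((Suzuki.sylowU (F := F) m : Sylow 2 (Cfsg.Sz F m)) : Subgroup (Cfsg.Sz F m)) ∧
          x * x = 1})) fun b c e => ((Suzuki.u_inj m).mp (congrArg Subtype.val e)).2
  have h8 : 8 ≤ Nat.card F := by
    rw [Nat.card_eq_fintype_card, Suzuki.SzField.card_eq (F := F) (m := m)]
    calc (8 : ℕ) = 2 ^ 3 := rfl
      _ ≤ _ := Nat.pow_le_pow_right two_pos (by omega)
  refine ⟨?_, h8.trans hle⟩
  show Nat.card (Suzuki.U m : Subgroup (Cfsg.Sz F m)) ≤ _
  rw [Suzuki.card_U]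
  exact Nat.pow_le_pow_left hle 2

open Cfsg.Agent.Unitary Cfsg.Agent.H52.SUThree in
theorem large_suThree [CharP F 2] {q : ℕ} (hF : Fintype.card F = q ^ 2) (h4 : 4 ≤ q) :
    (∃ W : Sylow 2 (Cfsg.SU 3 F q),
      Nat.card (W : Subgroup (Cfsg.SU 3 F q)) = q ^ 3 ∧
        q ≤ sqCount (W : Subgroup (Cfsg.SU 3 F q)) ∧ (∀ x ∈ (W : Subgroup (Cfsg.SU 3 F q)), x ^ 4 = 1) ∧
      ∃ (T : Sylow 2 (Cfsg.SU 3 F q)) (k : Cfsg.SU 3 F q), T ≠ W ∧
        k ∉ center (Cfsg.SU 3 F q) ∧
        k ∈ normalizer ((W : Subgroup (Cfsg.SU 3 F q)) : Set (Cfsg.SU 3 F q)) ∧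
        k ∈ normalizer ((T : Subgroup (Cfsg.SU 3 F q)) : Set (Cfsg.SU 3 F q)) ∧
        ∀ x ∈ (W : Subgroup (Cfsg.SU 3 F q)), x * x = 1 → k * x * k⁻¹ = x) := by
  classical
  obtain ⟨u, w, f, hfr⟩ := exists_frame (F := F) hF
  have hu0 : u ≠ 0 := fun h => by
    have := hfr.uf; rw [h, herm_zero_left] at this; exact zero_ne_one this
  have hf0 : f ≠ 0 := fun h => by
    have := hfr.fu; rw [h, herm_zero_left] at this; exact zero_ne_one this
  obtain ⟨W, hW⟩ := (H67.RankOneFix.suGeom 2 hF).stab u ⟨hu0, hfr.uu⟩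
  obtain ⟨T, hT⟩ := (H67.RankOneFix.suGeom 2 hF).stab f ⟨hf0, hfr.ff⟩
  change ∀ g, g ∈ (W : Subgroup (Cfsg.SU 3 F q)) ↔ ap g u = u at hW
  change ∀ g, g ∈ (T : Subgroup (Cfsg.SU 3 F q)) ↔ ap g f = f at hT
  have hE : ∀ {b β : F} (h : Ok q b β), eSU hF (h.spec hfr) ∈ (W : Subgroup (Cfsg.SU 3 F q)) :=
    fun h => (hW _).mpr (H67.RankOneFix.E_fixes hF hfr h)
  have hall : ∀ g ∈ (W : Subgroup (Cfsg.SU 3 F q)), ∃ (b β : F) (h : Ok q b β),
      g = eSU hF (h.spec hfr) := fun g hg => H67.RankOneFix.eq_E_of_fix hF hfr ((hW g).mp hg)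
  have hcard : Nat.card (W : Subgroup (Cfsg.SU 3 F q)) = q ^ 3 := by
    rw [← H72.PSUThree.card_ok hF]
    refine (Nat.card_congr (Equiv.ofBijective
      (fun p : {p : F × F // Ok q p.1 p.2} => (⟨_, hE p.2⟩ : (W : Subgroup (Cfsg.SU 3 F q))))
      ⟨fun a b e => ?_, fun g => ?_⟩)).symm
    · exact Subtype.ext (Prod.ext_iff.mpr
        (H72.PSUThree.E_inj hF hfr a.2 b.2 (congrArg Subtype.val e)))
    · obtain ⟨b, β, h, e⟩ := hall g g.2
      exact ⟨⟨(b, β), h⟩, Subtype.ext e.symm⟩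
  have hb0 : ∀ {b β : F} (h : Ok q b β), eSU hF (h.spec hfr) * eSU hF (h.spec hfr) = 1 → b = 0 := by
    intro b β h e
    rw [E_mul hF hfr h h] at e
    have h2 := congrArg (fun g : Cfsg.SU 3 F q => hermForm 3 F q (ap g f) f) e
    simp only [ap_one] at h2
    have e1 := ap_E hF hfr (h.add hF h) 0 0 1
    rw [H67.RankOneFix.fr_f] at e1
    rw [e1, hfr.coord_f, hfr.ff] at h2
    rw [zero_sub, mul_zero, neg_zero, zero_add, mul_one, CharTwo.add_self_eq_zero, zero_sub,
      neg_eq_zero, mul_eq_zero] at h2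
    rcases h2 with h2 | h2
    · exact h2
    · exact (pow_q_eq_zero_iff hF).mp h2
  have hq : q ≤ sqCount (W : Subgroup (Cfsg.SU 3 F q)) := by
    refine le_trans (le_of_eq (card_trace_zero hF).symm) (Nat.card_le_card_of_injective
      (fun β : {β : F // β + β ^ q = 0} => (⟨_, hE (b := 0) ((H72.PSUThree.ok_zero_iff hF).mpr β.2), by
        rw [E_mul hF hfr ((H72.PSUThree.ok_zero_iff hF).mpr β.2) ((H72.PSUThree.ok_zero_iff hF).mpr β.2)]
        rw [← H72.PSUThree.E_zero hF hfr]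
        exact E_congr hF hfr (((H72.PSUThree.ok_zero_iff hF).mpr β.2).add hF
          ((H72.PSUThree.ok_zero_iff hF).mpr β.2)) (Ok.zero hF) (by simp) (by
            simp [CharTwo.add_self_eq_zero])⟩ :
        {x // x ∈ (W : Subgroup (Cfsg.SU 3 F q)) ∧ x * x = 1})) fun a b e => ?_)
    exact Subtype.ext (H72.PSUThree.E_inj hF hfr ((H72.PSUThree.ok_zero_iff hF).mpr a.2)
      ((H72.PSUThree.ok_zero_iff hF).mpr b.2) (congrArg Subtype.val e)).2
  have h4' : ∀ x ∈ (W : Subgroup (Cfsg.SU 3 F q)), x ^ 4 = 1 := by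
    intro x hx
    obtain ⟨b, β, h, rfl⟩ := hall x hx
    exact H67.RankOneFix.E_pow_char_sq (p := 2) hF hfr h
  -- an element of norm one which is not a cube root of unity
  obtain ⟨l, hl, hl3⟩ : ∃ l : F, l ^ (q + 1) = 1 ∧ l ^ 3 ≠ 1 := by
    obtain ⟨g, hg⟩ := IsCyclic.exists_generator (α := Fˣ)
    have hord : orderOf g = q ^ 2 - 1 := by
      rw [orderOf_eq_card_of_forall_mem_zpowers hg, Nat.card_units, Nat.card_eq_fintype_card, hF]
    have hfac : q ^ 2 - 1 = (q - 1) * (q + 1) := by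
      simpa [Nat.mul_comm] using Nat.sq_sub_sq q 1
    refine ⟨((g ^ (q - 1) : Fˣ) : F), ?_, fun e => ?_⟩
    · rw [← Units.val_pow_eq_pow_val, ← pow_mul, ← hfac, ← hord, pow_orderOf_eq_one, Units.val_one]
    · rw [← Units.val_pow_eq_pow_val, Units.val_eq_one, ← pow_mul] at e
      have := Nat.le_of_dvd (by positivity [show 0 < (q - 1) * 3 by omega])
        (orderOf_dvd_of_pow_eq_one e)
      rw [hord, hfac] at this
      nlinarith [show 0 < q - 1 by omega]
  have hl0 : l ≠ 0 := fun e => by rw [e, zero_pow (Nat.succ_ne_zero q)] at hl; exact zero_ne_one hl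
  obtain ⟨k, hk⟩ := exists_map hF hfr !![l, 0, 0; 0, (l * l)⁻¹, 0; 0, 0, l]
    (by simp [Matrix.det_fin_three]; field_simp)
    (fun y z => by
      have hl' : l * l ^ q = 1 := by rw [← pow_succ']; exact hl
      have hlq : l ^ q = l⁻¹ := eq_inv_of_mul_eq_one_right hl'
      simp [Matrix.mulVec, dotProduct, Fin.sum_univ_three, mul_pow, inv_pow, hlq]
      field_simp)
  have hka : ∀ p r s, ap k (vec u w f p r s) = vec u w f (l * p) ((l * l)⁻¹ * r) (l * s) := by
    intro p r s
    rw [hk]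
    congr 1 <;> simp [Matrix.mulVec, dotProduct, Fin.sum_univ_three]
  have hku : ap k u = l • u := by
    have := hka 1 0 0
    rw [H67.RankOneFix.fr_u] at this
    rw [this]; simp [vec]
  have hkf : ap k f = l • f := by
    have := hka 0 0 1
    rw [H67.RankOneFix.fr_f] at this
    rw [this]; simp [vec]
  have hNorm : ∀ (R : Sylow 2 (Cfsg.SU 3 F q)) (v : Fin 3 → F),
      (∀ g, g ∈ (R : Subgroup (Cfsg.SU 3 F q)) ↔ ap g v = v) → ap k v = l • v →
      k ∈ normalizer ((R : Subgroup (Cfsg.SU 3 F q)) : Set (Cfsg.SU 3 F q)) := by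
    intro R v hR hkv
    refine mem_normalizer_iff.mpr fun g => ?_
    rw [hR, hR, ap_mul, ap_mul]
    have hkinv : ap k⁻¹ v = l⁻¹ • v := by
      have := congrArg (ap k⁻¹) hkv
      rw [ap_inv_ap, ap_smul] at this
      rw [eq_inv_smul_iff₀ hl0]; exact this.symm
    rw [hkinv, ap_smul, ap_smul]
    constructor
    · intro e; rw [e, hkv, smul_smul, inv_mul_cancel₀ hl0, one_smul]
    · intro e
      have := congrArg (ap k⁻¹) e
      rw [ap_smul, ap_inv_ap, hkinv] at this
      exact smul_right_injective _ (inv_ne_zero hl0) this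
  refine ⟨W, hcard, hq, h4', T, k, fun e => ?_, fun hc => ?_, hNorm W u hW hku, hNorm T f hT hkf, ?_⟩
  · obtain ⟨β, hβ⟩ := exists_ok hF (1 : F)
    have h1 := (hT _).mp (e ▸ hE hβ)
    have e1 := ap_E hF hfr hβ 0 0 1
    rw [H67.RankOneFix.fr_f, h1] at e1
    have := congrArg (fun x => hermForm 3 F q x w) e1
    simp [hfr.coord_w, hfr.fw] at this
  · obtain ⟨β, hβ⟩ := exists_ok hF (1 : F)
    have h := congrArg (fun g : Cfsg.SU 3 F q => ap g (vec u w f 0 0 1))
      (mem_center_iff.mp hc (eSU hF (hβ.spec hfr)))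
    simp only [ap_mul, hka, ap_E hF hfr hβ] at h
    have := congrArg (fun x => hermForm 3 F q x w) h
    simp only [hfr.coord_w] at this
    field_simp at this
    refine hl3 ?_
    linear_combination this
  · intro x hx hx2
    obtain ⟨b, β, h, rfl⟩ := hall x hx
    obtain rfl := hb0 h hx2
    rw [mul_inv_eq_iff_eq_mul]
    refine eq_of_ap hfr fun p r s => ?_
    rw [ap_mul, ap_mul, ap_E hF hfr h, hka, hka, ap_E hF hfr h]
    congr 1 <;> simp [q_ne_zero hF] <;> ring

end Families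

/-- The two types of groups in Bender's list. -/
theorem bender_sized {X : Type u} [Group X] [Finite X] (hB : H76.PostBender.IsBenderGroup X) :
    SmallSized X ∨ LargeSized X := by
  rcases hB with ⟨F, _, _, hc, -, ⟨e⟩⟩ | h | ⟨F, _, _, q, hF, hq, h4, ⟨e⟩⟩
  · haveI := hc
    left
    obtain ⟨W, hW, hW'⟩ := small_slTwo (F := F)
    set π := e.symm.toMonoidHom.comp (QuotientGroup.mk' (center (Matrix.SpecialLinearGroup (Fin 2) F)))
    have hπ : Function.Surjective π := e.symm.surjective.comp (QuotientGroup.mk'_surjective _)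
    have hker : Odd (Nat.card π.ker) := by
      have : π.ker = ⊥ := by
        rw [eq_bot_iff]
        intro a ha
        rw [MonoidHom.mem_ker, MonoidHom.comp_apply, MulEquiv.coe_toMonoidHom,
          MulEquiv.map_eq_one_iff, QuotientGroup.mk'_apply, QuotientGroup.eq_one_iff] at ha
        rcases Linear.mem_center_SL_two.mp ha with rfl | rfl
        · exact one_mem _
        · rw [mem_bot]
          refine Subtype.ext ?_
          ext i j
          fin_cases i <;> fin_cases j <;> simp [CharTwo.neg_eq]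
      rw [this, card_bot]; exact odd_one
    refine small_of_surjective hπ hker W ?_ fun h => by rw [hW, ← hW', h]
    rw [hW, hW']
    exact Nat.le_self_pow two_ne_zero _
  · left
    obtain ⟨F, _, _, m, hm, hF, ⟨e⟩⟩ := h
    haveI : Suzuki.SzField F m := ⟨hF, hm⟩
    obtain ⟨W, hW, hW'⟩ := small_sz (F := F) (m := m) hm
    set π := e.symm.toMonoidHom.comp (Suzuki.lieEquiv (F := F) m).toMonoidHom
    have hπ : Function.Surjective π := e.symm.surjective.comp (Suzuki.lieEquiv (F := F) m).surjective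
    have hker : Odd (Nat.card π.ker) := by
      rw [show π.ker = ⊥ from (MonoidHom.ker_eq_bot_iff π).mpr
        (e.symm.injective.comp (Suzuki.lieEquiv (F := F) m).injective), card_bot]
      exact odd_one
    exact small_of_surjective hπ hker W hW fun h => by omega
  · right
    haveI := H76.PostBender.charP_two_of_card hF hq
    obtain ⟨W, hW, hWq, hW4, T, k, hTW, hkc, hkW, hkT, hkx⟩ := large_suThree hF h4
    set π := e.symm.toMonoidHom.comp (QuotientGroup.mk' (center (Cfsg.SU 3 F q)))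
    have hπ : Function.Surjective π := e.symm.surjective.comp (QuotientGroup.mk'_surjective _)
    have hkereq : π.ker = center (Cfsg.SU 3 F q) := by
      ext a
      rw [MonoidHom.mem_ker, MonoidHom.comp_apply, MulEquiv.coe_toMonoidHom, MulEquiv.map_eq_one_iff,
        QuotientGroup.mk'_apply, QuotientGroup.eq_one_iff]
    have hker : Odd (Nat.card π.ker) := by
      rw [hkereq, Unitary.card_center_SU hF (by norm_num)]
      exact (Nat.odd_iff.mpr rfl : Odd 3).of_dvd_nat (Nat.gcd_dvd_left 3 (q + 1))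
    refine ⟨fun P => ?_, W.mapSurjective hπ, T.mapSurjective hπ, π k, ?_, ?_, ?_, ?_, ?_⟩
    · obtain ⟨V, rfl⟩ := Sylow.mapSurjective_surjective hπ 2 P
      obtain ⟨g, rfl⟩ := MulAction.exists_smul_eq (Cfsg.SU 3 F q) W V
      rw [card_map_sylow hπ hker, sqCount_map hπ hker, card_smul, sqCount_smul]
      refine ⟨hW ▸ Nat.pow_le_pow_left hWq 3, fun h => ⟨?_, ?_⟩⟩
      · obtain rfl : q = 4 := by omega
        rw [hW]; norm_num
      · intro y hy
        rw [Sylow.coe_mapSurjective] at hy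
        obtain ⟨x, hx, rfl⟩ := hy
        rw [SetLike.mem_coe, Sylow.coe_subgroup_smul] at hx
        obtain ⟨z, hz, rfl⟩ := hx
        show π (MulAut.conj g z) ^ 4 = 1
        rw [← map_pow, ← map_pow, hW4 z hz, map_one, map_one]
    · intro e'
      have key : ∀ V V' : Sylow 2 (Cfsg.SU 3 F q),
          (V.mapSurjective hπ : Sylow 2 X) = V'.mapSurjective hπ →
          (V' : Subgroup (Cfsg.SU 3 F q)) ≤ V := by
        intro V V' eV x hx
        have hx' : π x ∈ ((V'.mapSurjective hπ : Sylow 2 X) : Subgroup X) := by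
          rw [Sylow.coe_mapSurjective]; exact mem_map_of_mem π hx
        rw [← eV, Sylow.coe_mapSurjective] at hx'
        obtain ⟨y, hy, hyx⟩ := hx'
        exact sylow_mem_of_eq hkereq.le hker hy hx hyx
      exact hTW (Sylow.ext (le_antisymm (key W T e'.symm) (key T W e')))
    · rw [Ne, ← MonoidHom.mem_ker, hkereq]; exact hkc
    · exact mem_normalizer_map hπ hkW
    · exact mem_normalizer_map hπ hkT
    · intro x hx hx2
      rw [Sylow.coe_mapSurjective] at hx
      obtain ⟨y, hy, rfl⟩ := hx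
      rw [← map_inv, ← map_mul, ← map_mul,
        hkx y hy (eq_one_of_ker hker (mul_mem hy hy) (by rw [map_mul, hx2]))]
where
  mem_normalizer_map {K : Type} [Group K] [Finite K] {Y : Type u} [Group Y] {π : K →* Y}
      (hπ : Function.Surjective π) {S : Sylow 2 K} {k : K}
      (hk : k ∈ normalizer ((S : Subgroup K) : Set K)) :
      π k ∈ normalizer (((S.mapSurjective hπ : Sylow 2 Y) : Subgroup Y) : Set Y) := by
    rw [Sylow.coe_mapSurjective]
    exact le_normalizer_map π (mem_map_of_mem π hk)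
  sylow_mem_of_eq {K : Type} [Group K] [Finite K] {Y : Type u} [Group Y] {π : K →* Y}
      (hc : π.ker ≤ center K) (hker : Odd (Nat.card π.ker)) {V V' : Sylow 2 K} {x y : K}
      (hy : y ∈ (V : Subgroup K)) (hx : x ∈ (V' : Subgroup K)) (e : π y = π x) :
      x ∈ (V : Subgroup K) := by
    have hd : y⁻¹ * x ∈ π.ker := by rw [MonoidHom.mem_ker, map_mul, map_inv, e, inv_mul_cancel]
    have hcc : Commute y (y⁻¹ * x) := mem_center_iff.mp (hc hd) y
    obtain ⟨n, hn⟩ := V.isPGroup' ⟨y, hy⟩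
    obtain ⟨n', hn'⟩ := V'.isPGroup' ⟨x, hx⟩
    have hn1 : y ^ 2 ^ (n + n') = 1 := by
      rw [pow_add, pow_mul, show y ^ 2 ^ n = 1 from congrArg Subtype.val hn, one_pow]
    have hn2 : x ^ 2 ^ (n + n') = 1 := by
      rw [pow_add, mul_comm, pow_mul, show x ^ 2 ^ n' = 1 from congrArg Subtype.val hn', one_pow]
    have h1 : (y⁻¹ * x) ^ 2 ^ (n + n') = 1 := by
      have := hcc.mul_pow (2 ^ (n + n'))
      rw [mul_inv_cancel_left, hn1, one_mul, hn2] at this
      exact this.symm
    have h2 := Nat.eq_one_of_dvd_coprimes (Nat.Coprime.pow_left _ (Nat.coprime_two_left.mpr hker))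
      (orderOf_dvd_of_pow_eq_one h1)
      (Subgroup.orderOf_dvd_natCard π.ker hd)
    rw [orderOf_eq_one_iff, inv_mul_eq_one] at h2
    exact h2 ▸ hy

end Cfsg.Agent.H60.CycInt
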