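import Cfsg.Agent.S3360
import Mathlib.FieldTheory.Fixed
import Mathlib.FieldTheory.Finite.Basic

/-!
# A solvable group transitive on an elementary abelian 2-group

By semilinearity, the stabiliser of a non-trivial element moves a given element to at most as many
elements as the field has automorphisms.
-/

set_option autoImplicit false
set_option linter.style.haveILetI false
set_option linter.unusedSectionVars false

namespace Cfsg.Agent.H60.CycInt

open Subgroup

local instance fact_two_semilinear : Fact (Nat.Prime 2) := ⟨Nat.prime_two⟩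

universe u

/-- A finite field with `2 ^ (m+1)` elements has at most `m + 1` automorphisms. -/
theorem card_ringAut_le {F : Type} [Field F] [Fintype F] {m : ℕ}
    (hF : Fintype.card F = 2 ^ (m + 1)) : Nat.card (F ≃+* F) ≤ m + 1 := by
  classical
  have h2 : ((2 : ℕ) : F) = 0 := by
    have h1 : ((Fintype.card F : ℕ) : F) = 0 := by simp
    rw [hF, Nat.cast_pow] at h1
    exact eq_zero_of_pow_eq_zero h1
  haveI : CharP F 2 := (CharP.charP_iff_prime_eq_zero Nat.prime_two).mpr h2
  letI : Algebra (ZMod 2) F := ZMod.algebra F 2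
  have hfr : Module.finrank (ZMod 2) F = m + 1 := by
    have h := Module.natCard_eq_pow_finrank (K := ZMod 2) (V := F)
    rw [Nat.card_zmod, Nat.card_eq_fintype_card, hF] at h
    exact (Nat.pow_right_injective le_rfl h).symm
  haveI : Finite (F ≃ₐ[ZMod 2] F) :=
    Finite.of_injective (fun σ => (σ : F → F)) DFunLike.coe_injective
  have hinj : Function.Injective (fun σ : F ≃+* F =>
      (AlgEquiv.ofRingEquiv (f := σ) fun x => RingHom.congr_fun
        (RingHom.ext_zmod ((σ : F →+* F).comp (algebraMap (ZMod 2) F))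
          (algebraMap (ZMod 2) F)) x : F ≃ₐ[ZMod 2] F)) := fun σ τ e =>
    RingEquiv.ext fun x => AlgEquiv.congr_fun e x
  refine le_trans (Nat.card_le_card_of_injective _ hinj) ?_
  haveI : FiniteDimensional (ZMod 2) F := Module.Finite.of_finite
  rw [Nat.card_eq_fintype_card, ← hfr]
  exact AlgEquiv.card_le (F := ZMod 2) (K := F)

variable {G : Type u} [Group G] [Finite G]

/-- The images of `a` under the stabiliser of `z` are at most as many as the field automorphisms. -/
theorem ncard_le_of_transitive {A N : Subgroup G} (hsq : ∀ a ∈ A, a * a = 1)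
    (hnorm : ∀ g ∈ N, ∀ x ∈ A, g * x * g⁻¹ ∈ A) (hsol : Group.IsSolvable ↥N) {m : ℕ}
    (hcard : Nat.card A = 2 ^ (m + 1)) {z a : G} (hz : z ∈ A) (hz1 : z ≠ 1) (ha : a ∈ A)
    (htrans : ∀ x ∈ A, ∀ y ∈ A, x ≠ 1 → y ≠ 1 → ∃ g ∈ N, g * x * g⁻¹ = y) {B : Set G}
    (hB : ∀ b ∈ B, ∃ g ∈ N, g * z * g⁻¹ = z ∧ g * a * g⁻¹ = b) : B.ncard ≤ m + 1 := by
  classical
  have hinv : ∀ x ∈ A, x⁻¹ = x := fun x hx => inv_eq_of_mul_eq_one_right (hsq x hx)
  letI : CommGroup ↥A :=
    { (inferInstance : Group ↥A) with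
      mul_comm := fun x y => Subtype.ext (by
        show (x : G) * y = y * x
        rw [← hinv _ (mul_mem x.2 y.2), mul_inv_rev, hinv _ x.2, hinv _ y.2]) }
  letI : Module (ZMod 2) (Additive ↥A) := AddCommGroup.zmodModule fun x => by
    rw [two_nsmul]
    exact congrArg Additive.ofMul (show x.toMul * x.toMul = 1 from Subtype.ext (hsq _ x.toMul.2))
  haveI : Nontrivial (Additive ↥A) :=
    ⟨⟨Additive.ofMul ⟨z, hz⟩, 0, fun e => hz1 (congrArg (fun x : Additive ↥A => (x.toMul : G)) e)⟩⟩
  let ρ₀ : ↥N →* (Additive ↥A ≃ₗ[ZMod 2] Additive ↥A) :=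
    { toFun := fun g =>
        LinearEquiv.ofBijective
          ((AddMonoidHom.mk' (fun v : Additive ↥A =>
              Additive.ofMul (⟨g * (v.toMul : G) * (g : G)⁻¹, hnorm g g.2 _ v.toMul.2⟩ : ↥A))
            fun v w => congrArg Additive.ofMul (Subtype.ext (by
              show (g : G) * ((v.toMul : G) * w.toMul) * (g : G)⁻¹ =
                (g : G) * v.toMul * (g : G)⁻¹ * ((g : G) * w.toMul * (g : G)⁻¹)
              group))).toZModLinearMap 2)
          (Finite.injective_iff_bijective.mp fun v w e => by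
            have h := congrArg (fun x : Additive ↥A => (x.toMul : G)) e
            simp only [AddMonoidHom.coe_toZModLinearMap, AddMonoidHom.mk'_apply, toMul_ofMul,
              mul_left_inj, mul_right_inj] at h
            exact Additive.toMul.injective (Subtype.ext h))
      map_one' := LinearEquiv.ext fun v => Additive.toMul.injective (Subtype.ext (by
        show (1 : G) * v.toMul * (1 : G)⁻¹ = v.toMul
        simp))
      map_mul' := fun g k => LinearEquiv.ext fun v => Additive.toMul.injective (Subtype.ext (by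
        show (g : G) * k * v.toMul * ((g : G) * k)⁻¹ = g * (k * v.toMul * (k : G)⁻¹) * (g : G)⁻¹
        group)) }
  have hρ : ∀ (g : ↥N) (v : Additive ↥A), ((ρ₀ g v).toMul : G) = g * v.toMul * (g : G)⁻¹ :=
    fun g v => rfl
  haveI : Finite ↥ρ₀.range := Finite.of_surjective _ ρ₀.rangeRestrict_surjective
  haveI := hsol
  have hsol' : Group.IsSolvable ↥ρ₀.range :=
    Group.isSolvable_of_surjective ρ₀.rangeRestrict_surjective
  have hVcard : Nat.card (Additive ↥A) = 2 ^ (m + 1) :=
    (Nat.card_congr Additive.toMul).trans hcard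
  rcases S3360.result 2 hsol' ρ₀.range.subtype Subtype.val_injective (fun v w hv hw => by
    obtain ⟨g, hg, e⟩ := htrans _ v.toMul.2 _ w.toMul.2
      (fun e => hv (Additive.toMul.injective (Subtype.ext e)))
      (fun e => hw (Additive.toMul.injective (Subtype.ext e)))
    exact ⟨⟨ρ₀ ⟨g, hg⟩, _, rfl⟩, Additive.toMul.injective (Subtype.ext e)⟩) with
    ⟨F, iF, iFin, e, he⟩ | hsmall
  · have hF : Fintype.card F = 2 ^ (m + 1) := by
      rw [← Nat.card_eq_fintype_card, ← Nat.card_congr e.toEquiv, hVcard]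
    haveI : Finite (F ≃+* F) := Finite.of_injective (fun σ => (σ : F → F)) DFunLike.coe_injective
    set zF := e (Additive.ofMul ⟨z, hz⟩) with hzF
    set aF := e (Additive.ofMul ⟨a, ha⟩) with haF
    have hzF0 : zF ≠ 0 := fun h => hz1 (congrArg (fun x : Additive ↥A => (x.toMul : G))
      ((e.map_eq_zero_iff).mp h))
    let f : (F ≃+* F) → G := fun σ => ((e.symm (zF * (σ zF)⁻¹ * σ aF)).toMul : G)
    have hsub : B ⊆ Set.range f := by
      intro b hb
      obtain ⟨g, hg, hgz, hga⟩ := hB b hb
      obtain ⟨c, σ, hσ⟩ := he ⟨ρ₀ ⟨g, hg⟩, _, rfl⟩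
      refine ⟨σ, ?_⟩
      have h1 : ρ₀ ⟨g, hg⟩ (Additive.ofMul ⟨z, hz⟩) = Additive.ofMul ⟨z, hz⟩ :=
        Additive.toMul.injective (Subtype.ext hgz)
      have h2 := hσ (Additive.ofMul ⟨z, hz⟩)
      rw [Subgroup.coe_subtype, h1] at h2
      have hc : zF * (σ zF)⁻¹ = c := by
        rw [← hzF] at h2
        have hs : σ zF ≠ 0 := fun h => hzF0 (σ.injective (h.trans (map_zero σ).symm))
        calc zF * (σ zF)⁻¹ = c * σ zF * (σ zF)⁻¹ := by rw [← h2]
          _ = c := mul_inv_cancel_right₀ hs c
      have h3 := hσ (Additive.ofMul ⟨a, ha⟩)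
      rw [Subgroup.coe_subtype, ← haF] at h3
      show ((e.symm (zF * (σ zF)⁻¹ * σ aF)).toMul : G) = b
      rw [hc, ← h3, AddEquiv.symm_apply_apply, hρ, ← hga]
      rfl
    calc B.ncard ≤ (Set.range f).ncard := Set.ncard_le_ncard hsub (Set.toFinite _)
      _ ≤ Nat.card (F ≃+* F) := by
          rw [← Nat.card_coe_set_eq]; exact Finite.card_range_le f
      _ ≤ m + 1 := card_ringAut_le hF
  · exfalso
    have h2 : 2 ∣ Nat.card (Additive ↥A) := hVcard ▸ dvd_pow_self 2 m.succ_ne_zero
    simp only [Set.mem_insert_iff, Set.mem_singleton_iff] at hsmall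
    omega

end Cfsg.Agent.H60.CycInt
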