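import Cfsg.Agent.H60.CycInt.Simple
import Cfsg.Agent.H60.CycInt.Models
import Cfsg.Agent.H60.CycInt.Semilinear

/-!
# The Sylow 2-subgroup has order eight

A Sylow 2-subgroup `S` with a central involution `z` and a map `f` to a quotient with cyclic kernel
containing `z`, such that the normaliser of `S` fixing `z` is transitive on the involutions of the image.
-/

set_option autoImplicit false
set_option linter.style.haveILetI false
set_option linter.unusedSectionVars false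

namespace Cfsg.Agent.H60.CycInt

open Subgroup
open scoped Pointwise

local instance fact_two_eight : Fact (Nat.Prime 2) := ⟨Nat.prime_two⟩

universe u

variable {G : Type u} [Group G] [Finite G]

/-- An element of prime power order fixing no element of a set moves it in orbits of size divisible
by the prime. -/
theorem modEq_fixed (k : G) {r e : ℕ} [hr : Fact r.Prime] (hk : k ^ r ^ e = 1) {T : Set G}
    (hT : ∀ x, x ∈ T ↔ k * x * k⁻¹ ∈ T) :
    T.ncard ≡ {x ∈ T | k * x * k⁻¹ = x}.ncard [MOD r] := by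
  classical
  set σ : Equiv.Perm ↥T := (MulAut.conj k).toEquiv.subtypeEquiv hT with hσ
  have hpow : ∀ (j : ℕ) (x : ↥T), ((σ ^ j) x : G) = k ^ j * x * (k ^ j)⁻¹ := by
    intro j
    induction j with
    | zero => intro x; simp
    | succ j ih =>
      intro x
      rw [pow_succ', Equiv.Perm.mul_apply]
      show k * ((σ ^ j) x : G) * k⁻¹ = _
      rw [ih, pow_succ']; group
  have hσ1 : σ ^ r ^ e = 1 := Equiv.ext fun x => Subtype.ext (by rw [hpow, hk]; simp)
  have hP : IsPGroup r (zpowers σ) := by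
    rintro ⟨g, hg⟩
    obtain ⟨i, rfl⟩ := mem_zpowers_iff.mp hg
    exact ⟨e, Subtype.ext (by
      show (σ ^ i) ^ r ^ e = 1
      rw [← zpow_natCast, ← zpow_mul, mul_comm, zpow_mul, zpow_natCast, hσ1, one_zpow])⟩
  have h1 := hP.card_modEq_card_fixedPoints ↥T
  have h2 : Nat.card (MulAction.fixedPoints (zpowers σ) ↥T) = {x ∈ T | k * x * k⁻¹ = x}.ncard := by
    rw [← Nat.card_coe_set_eq]
    refine Nat.card_congr
      { toFun := fun x => ⟨x.1.1, x.1.2, congrArg Subtype.val (x.2 ⟨σ, mem_zpowers σ⟩)⟩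
        invFun := fun x => ⟨⟨x.1, x.2.1⟩, fun g => ?_⟩
        left_inv := fun x => rfl
        right_inv := fun x => rfl }
    obtain ⟨g, hg⟩ := g
    obtain ⟨i, rfl⟩ := mem_zpowers_iff.mp hg
    show (σ ^ i) _ = _
    exact Equiv.Perm.zpow_apply_eq_self_of_apply_eq_self (Subtype.ext x.2.2) i
  rw [h2, Nat.card_coe_set_eq] at h1
  exact h1

theorem solvable_normalizer_sylow (S : Sylow 2 G) :
    Group.IsSolvable ↥(normalizer ((S : Subgroup G) : Set G)) := by
  set N := normalizer ((S : Subgroup G) : Set G)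
  haveI : ((S : Subgroup G).subgroupOf N).Normal := normal_in_normalizer
  haveI : Group.IsNilpotent ↥((S : Subgroup G).subgroupOf N) :=
    (S.isPGroup'.comap_subtype).isNilpotent
  refine solvable_of_quotient (N := (S : Subgroup G).subgroupOf N) inferInstance (solvable_odd ?_)
  have h1 : Nat.card (↥N ⧸ (S : Subgroup G).subgroupOf N) ∣ (S : Subgroup G).index :=
    Subgroup.relIndex_dvd_index_of_le le_normalizer
  exact (Nat.odd_iff.mpr (Nat.two_dvd_ne_zero.mp S.not_dvd_index)).of_dvd_nat h1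

/-- The orbit of a central element under the normaliser of a Sylow 2-subgroup. -/
theorem orbit_facts (S : Sylow 2 G) {z : G} (hz : z ∈ (S : Subgroup G))
    (hzc : ∀ s ∈ (S : Subgroup G), Commute s z) :
    Odd {y : G | ∃ n ∈ normalizer ((S : Subgroup G) : Set G), n * z * n⁻¹ = y}.ncard ∧
    ∀ (r : ℕ) [Fact r.Prime],
      r ∣ {y : G | ∃ n ∈ normalizer ((S : Subgroup G) : Set G), n * z * n⁻¹ = y}.ncard →
      ∃ k ∈ normalizer ((S : Subgroup G) : Set G), ∃ e : ℕ, k ^ r ^ e = 1 ∧ k * z * k⁻¹ ≠ z := by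
  set N := normalizer ((S : Subgroup G) : Set G) with hN
  letI : MulAction ↥N G := MulAction.compHom G (MulAut.conj.comp N.subtype)
  have hsmul : ∀ (n : ↥N) (x : G), n • x = (n : G) * x * (n : G)⁻¹ := fun n x => rfl
  have ho : MulAction.orbit ↥N z = {y : G | ∃ n ∈ N, n * z * n⁻¹ = y} := by
    ext y
    exact ⟨fun ⟨n, e⟩ => ⟨n, n.2, e⟩, fun ⟨n, hn, e⟩ => ⟨⟨n, hn⟩, e⟩⟩
  rw [← ho, ← MulAction.index_stabilizer]
  refine ⟨?_, fun r _ hdvd => ?_⟩
  · have h1 : (S : Subgroup G).subgroupOf N ≤ MulAction.stabilizer ↥N z := fun s hs => by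
      rw [MulAction.mem_stabilizer_iff, hsmul, (hzc (s : G) hs).eq, mul_inv_cancel_right]
    have h2 : ((S : Subgroup G).subgroupOf N).index ∣ (S : Subgroup G).index :=
      Subgroup.relIndex_dvd_index_of_le le_normalizer
    exact (Nat.odd_iff.mpr (Nat.two_dvd_ne_zero.mp S.not_dvd_index)).of_dvd_nat
      ((Subgroup.index_dvd_of_le h1).trans h2)
  · obtain ⟨Q⟩ : Nonempty (Sylow r ↥N) := inferInstance
    have h1 : ¬ (Q : Subgroup ↥N) ≤ MulAction.stabilizer ↥N z := fun hle =>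
      Q.not_dvd_index (hdvd.trans (Subgroup.index_dvd_of_le hle))
    obtain ⟨k, hk, hkz⟩ := SetLike.not_le_iff_exists.mp h1
    obtain ⟨e, he⟩ := Q.isPGroup' ⟨k, hk⟩
    refine ⟨k, k.2, e, ?_, fun e' => hkz (MulAction.mem_stabilizer_iff.mpr e')⟩
    exact congrArg (fun x : (Q : Subgroup ↥N) => ((x : ↥N) : G)) he

/-- An element of 2-power order with square of order `2^e` trivial in the image. -/
theorem exists_order {P : Subgroup G} (hP : IsPGroup 2 P) {e : ℕ} {s : G} (hs : s ∈ P)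
    (hne : s ^ 2 ^ e ≠ 1) : ∃ t ∈ P, t ^ 2 ^ e ≠ 1 ∧ t ^ 2 ^ e * t ^ 2 ^ e = 1 := by
  classical
  obtain ⟨j, hj⟩ := hP ⟨s, hs⟩
  have hj' : s ^ 2 ^ j = 1 := congrArg Subtype.val hj
  have hex : ∃ i, s ^ 2 ^ (e + i) = 1 := ⟨j, by rw [pow_add, mul_comm, pow_mul, hj', one_pow]⟩
  have hi := Nat.find_spec hex
  have hpos : 0 < Nat.find hex := Nat.pos_of_ne_zero fun h0 => hne (by rw [h0, add_zero] at hi; exact hi)
  obtain ⟨i, hi'⟩ := Nat.exists_eq_add_of_le hpos
  refine ⟨s ^ 2 ^ i, pow_mem hs _, ?_, ?_⟩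
  · rw [← pow_mul, ← pow_add, add_comm]
    exact Nat.find_min hex (by omega)
  · rw [← pow_add, ← pow_mul, ← two_mul, ← pow_succ', ← pow_add,
      show i + (e + 1) = e + Nat.find hex by omega]
    exact hi

/-- The orbit argument, the semilinearity and the fixed points of an element of order a power of 7. -/
theorem eight_of_quotient (S : Sylow 2 G) {z : G} (hzA : z ∈ ctrInv (S : Subgroup G))
    (hz : orderOf z = 2)
    (hmoved : ∃ n ∈ normalizer ((S : Subgroup G) : Set G), n * z * n⁻¹ ≠ z)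
    {Y : Type*} [Group Y] [Finite Y] (f : G → Y)
    (hmul : ∀ x ∈ (S : Subgroup G), ∀ y ∈ (S : Subgroup G), f (x * y) = f x * f y)
    (P : Subgroup Y) (hP : ∀ d, d ∈ P ↔ ∃ x ∈ (S : Subgroup G), f x = d) (hfz : f z = 1)
    (hker : ∀ x ∈ (S : Subgroup G), x * x = 1 → f x = 1 → x = 1 ∨ x = z)
    (hker4 : (∀ x ∈ (S : Subgroup G), x ^ 4 = 1) →
      Nat.card (S : Subgroup G) ∣ 4 * Nat.card P)
    (hlift : ∀ x ∈ (S : Subgroup G), ∀ d ∈ P, orderOf (f x) = 2 → orderOf d = 2 →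
      ∃ m ∈ normalizer ((S : Subgroup G) : Set G), m * z * m⁻¹ = z ∧ f (m * x * m⁻¹) = d)
    (hq : 4 ≤ sqCount P)
    (hsize : sqCount P = 4 → Nat.card P = 4 ∨ (Nat.card P = 64 ∧ ∀ x ∈ P, x ^ 4 = 1))
    (hA : 4 ≤ Nat.card (ctrInv (S : Subgroup G))) :
    (∀ x ∈ (S : Subgroup G), x * x = 1) ∧ Nat.card (S : Subgroup G) = 8 ∧ Nat.card P = 4 ∧
      ∀ x ∈ (S : Subgroup G), x ≠ 1 →
        ∃ n ∈ normalizer ((S : Subgroup G) : Set G), n * z * n⁻¹ = x := by
  classical
  set N := normalizer ((S : Subgroup G) : Set G) with hN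
  set A := ctrInv (S : Subgroup G) with hAdef
  have hz1 : z ≠ 1 := fun e => by rw [e, orderOf_one] at hz; exact absurd hz (by norm_num)
  have hf1 : f 1 = 1 := by simpa using hmul 1 (one_mem _) 1 (one_mem _)
  have hNS : ∀ n ∈ N, ∀ x ∈ (S : Subgroup G), n * x * n⁻¹ ∈ (S : Subgroup G) := fun n hn x hx =>
    (mem_normalizer_iff.mp hn x).mp hx
  let res : ↥A →* Y :=
    MonoidHom.mk' (fun x => f x) fun x y => hmul x x.2.1 y y.2.1
  have hfib : ∀ x ∈ A, ∀ y ∈ A, f x = f y → x = y ∨ x = y * z := by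
    intro x hx y hy e
    have h1 : f (y⁻¹ * x) = 1 :=
      MonoidHom.mem_ker.mp ((MonoidHom.eq_iff res (x := (⟨x, hx⟩ : A)) (y := ⟨y, hy⟩)).mp e)
    rcases hker _ (mul_mem (inv_mem hy.1) hx.1) (mul_mem (inv_mem hy) hx).2.1 h1 with h2 | h2
    · exact Or.inl (inv_mul_eq_one.mp h2).symm
    · exact Or.inr (by rw [← h2, mul_inv_cancel_left])
  obtain ⟨b₀, hb₀, hb₀1, hb₀z⟩ : ∃ b ∈ A, b ≠ 1 ∧ b ≠ z := by
    by_contra hno
    push Not at hno
    have hsub : (A : Set G) ⊆ {1, z} := fun x hx => by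
      by_cases h1 : x = 1
      · exact Or.inl h1
      · exact Or.inr (hno x hx h1)
    have h3 := (Set.ncard_le_ncard hsub).trans (Set.ncard_pair (Ne.symm hz1)).le
    rw [← Nat.card_coe_set_eq] at h3
    change Nat.card ↥A ≤ 2 at h3
    omega
  have hf_ord : ∀ x ∈ (S : Subgroup G), x * x = 1 → x ≠ 1 → x ≠ z → orderOf (f x) = 2 :=
    fun x hx hx2 hx1 hxz => orderOf_two (by rw [← hmul x hx x hx, hx2, hf1]) fun e =>
      (hker x hx hx2 e).elim hx1 hxz
  -- every element of square one of the image comes from `A`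
  have hcover : ∀ d ∈ P, d * d = 1 → ∃ x ∈ A, f x = d := by
    intro d hd hd2
    rcases eq_or_ne d 1 with rfl | hd1
    · exact ⟨1, one_mem _, hf1⟩
    obtain ⟨m, hm, -, e⟩ := hlift b₀ hb₀.1 d hd (hf_ord b₀ hb₀.1 hb₀.2.1 hb₀1 hb₀z)
      (orderOf_two hd2 hd1)
    exact ⟨_, ctrInv_invariant hm hb₀, e⟩
  have hall : ∀ x ∈ (S : Subgroup G), x * x = 1 → x ∈ A := by
    intro x hx hx2
    obtain ⟨y, hy, e⟩ := hcover (f x) ((hP _).mpr ⟨x, hx, rfl⟩)
      (by rw [← hmul x hx x hx, hx2, hf1])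
    have hyy : y⁻¹ = y := inv_eq_of_mul_eq_one_right hy.2.1
    have h1 : f (y * x) = 1 := by
      rw [hmul y hy.1 x hx, e, ← hmul x hx x hx, hx2, hf1]
    have h2 : y * x * (y * x) = 1 := by
      rw [mul_assoc, ← mul_assoc x, (hy.2.2 x hx).eq,
        mul_assoc y x x, hx2, mul_one, hy.2.1]
    rcases hker _ (mul_mem hy.1 hx) h2 h1 with h3 | h3
    · rw [← inv_eq_of_mul_eq_one_right h3, hyy]; exact hy
    · rw [show x = y⁻¹ * (y * x) by rw [inv_mul_cancel_left], h3]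
      exact mul_mem (inv_mem hy) hzA
  -- the number of elements of square one
  have hrange : ∀ d, d ∈ res.range ↔ d ∈ P ∧ d * d = 1 := by
    refine fun d => ⟨?_, fun ⟨hd, hd2⟩ => ?_⟩
    · rintro ⟨x, rfl⟩
      refine ⟨(hP _).mpr ⟨x, x.2.1, rfl⟩, ?_⟩
      show f x * f x = 1
      rw [← hmul _ x.2.1 _ x.2.1, x.2.2.1, hf1]
    · obtain ⟨x, hx, e⟩ := hcover d hd hd2
      exact ⟨⟨x, hx⟩, e⟩
  have hrcard : Nat.card res.range = sqCount P :=
    Nat.card_congr (Equiv.subtypeEquivRight hrange)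
  have hkcard : Nat.card res.ker = 2 := by
    refine Nat.card_eq_two_iff.mpr ⟨1, ⟨⟨z, hzA⟩, hfz⟩, fun e => hz1 ?_, ?_⟩
    · exact (congrArg (fun x : res.ker => ((x : A) : G)) e).symm
    · refine Set.eq_univ_of_forall fun x => ?_
      rcases hker _ x.1.2.1 x.1.2.2.1 x.2 with e | e
      · exact Or.inl (Subtype.ext (Subtype.ext e))
      · exact Or.inr (Subtype.ext (Subtype.ext e))
  have hAcard : Nat.card A = 2 * sqCount P := by
    rw [← hrcard, ← hkcard, ← Subgroup.index_ker, Subgroup.card_mul_index]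
  obtain ⟨n, hn⟩ : ∃ n, sqCount P = 2 ^ n := by
    obtain ⟨j, hj⟩ := IsPGroup.iff_card.mp (S.isPGroup'.to_le (ctrInv_le (S : Subgroup G)))
    change Nat.card A = 2 ^ j at hj
    rcases j with _ | j
    · omega
    · exact ⟨j, by rw [pow_succ'] at hj; omega⟩
  have hn2 : 2 ≤ n := by
    by_contra hlt
    have : 2 ^ n ≤ 2 ^ 1 := Nat.pow_le_pow_right two_pos (by omega)
    omega
  -- transitivity
  obtain ⟨hodd, hr⟩ := orbit_facts S hzA.1 hzA.2.2
  rw [← hN] at hodd hr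
  set O := {y : G | ∃ n ∈ N, n * z * n⁻¹ = y} with hO
  set D := {d : Y | d ∈ P ∧ d * d = 1 ∧ d ≠ 1} with hD
  have hDcard : D.ncard + 1 = sqCount P := by
    have h1 : D = {d : Y | d ∈ P ∧ d * d = 1} \ {1} := by ext d; simp [hD, and_assoc]
    rw [h1, Set.ncard_sdiff_singleton_add_one
      (show (1 : Y) ∈ {d : Y | d ∈ P ∧ d * d = 1} from ⟨one_mem _, mul_one 1⟩) (Set.toFinite _)]
    exact (Nat.card_coe_set_eq _).symm
  have hOmem : ∀ y ∈ O, y ∈ A ∧ y ≠ 1 := by
    rintro y ⟨m, hm, rfl⟩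
    exact ⟨ctrInv_invariant hm hzA, fun e => hz1 (conj_eq_one_iff.mp e)⟩
  have hOconj : ∀ y ∈ O, ∀ m ∈ N, m * y * m⁻¹ ∈ O := by
    rintro y ⟨k, hk, rfl⟩ m hm
    exact ⟨m * k, mul_mem hm hk, by group⟩
  have hOD : ∀ y ∈ O, y ≠ z → f y ∈ D := fun y hy hyz => by
    obtain ⟨hyA, hy1⟩ := hOmem y hy
    have h2 := hf_ord y hyA.1 hyA.2.1 hy1 hyz
    exact ⟨(hP _).mpr ⟨y, hyA.1, rfl⟩, sq_eq_one h2,
      fun e => by rw [e, orderOf_one] at h2; omega⟩
  obtain ⟨a, haO, haz⟩ : ∃ a ∈ O, a ≠ z := by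
    obtain ⟨m, hm, e⟩ := hmoved
    exact ⟨_, ⟨m, hm, rfl⟩, e⟩
  obtain ⟨haA, ha1⟩ := hOmem a haO
  have hover : ∀ d ∈ D, ∃ y ∈ O, y ≠ z ∧ f y = d := fun d hd => by
    obtain ⟨m, hm, hmz, e⟩ := hlift a haA.1 d hd.1 (hf_ord a haA.1 haA.2.1 ha1 haz)
      (orderOf_two hd.2.1 hd.2.2)
    refine ⟨_, hOconj a haO m hm, fun e' => hd.2.2 ?_, e⟩
    rw [← e, e', hfz]
  have htop : ∀ y ∈ A, y ≠ 1 → y ∈ O := by
    intro y hy hy1
    by_contra hyO
    have hyz : y ≠ z := fun e => hyO (e ▸ ⟨1, one_mem _, by simp⟩)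
    have hy2 := hf_ord y hy.1 hy.2.1 hy1 hyz
    have hyD : f y ∈ D := ⟨(hP _).mpr ⟨y, hy.1, rfl⟩, sq_eq_one hy2,
      fun e => by rw [e, orderOf_one] at hy2; omega⟩
    obtain ⟨o, hoO, hoz, ho⟩ := hover _ hyD
    have hyo : y = o * z := (hfib y hy o (hOmem o hoO).1 ho.symm).resolve_left
      fun e => hyO (e ▸ hoO)
    have hinj : Set.InjOn f (O \ {z}) := by
      rintro x ⟨hxO, hxz⟩ x' ⟨hx'O, -⟩ e
      obtain ⟨hxA, hx1⟩ := hOmem x hxO
      refine (hfib x hxA x' (hOmem x' hx'O).1 e).resolve_right fun e' => hyO ?_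
      obtain ⟨m, hm, hmz, em⟩ := hlift x hxA.1 (f o) ((hP _).mpr ⟨o, (hOmem o hoO).1.1, rfl⟩)
        (hf_ord x hxA.1 hxA.2.1 hx1 hxz) (ho ▸ hy2)
      have h2 : m * x' * m⁻¹ * z = m * x * m⁻¹ := by
        rw [e', show m * (x' * z) * m⁻¹ = m * x' * m⁻¹ * (m * z * m⁻¹) by group, hmz]
      rcases hfib _ (ctrInv_invariant hm hxA) o (hOmem o hoO).1 em with e3 | e3
      · have h3 : m * x' * m⁻¹ = y := by
          rw [hyo, ← e3, ← h2, mul_assoc _ z, sq_eq_one hz, mul_one]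
        exact h3 ▸ hOconj x' hx'O m hm
      · rw [hyo, ← e3]
        exact hOconj x hxO m hm
    have hcard : (O \ {z}).ncard = D.ncard := by
      refine le_antisymm (Set.ncard_le_ncard_of_injOn f (fun x hx => hOD x hx.1 hx.2) hinj) ?_
      have hsub : D ⊆ f '' (O \ {z}) := fun d hd => by
        obtain ⟨w, hw, hwz, e⟩ := hover d hd
        exact ⟨w, ⟨hw, hwz⟩, e⟩
      exact (Set.ncard_le_ncard hsub).trans (Set.ncard_image_le)
    have hOc : O.ncard = sqCount P := by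
      rw [← hDcard, ← hcard, Set.ncard_sdiff_singleton_add_one
        (show z ∈ O from ⟨1, one_mem _, by simp⟩) (Set.toFinite _)]
    rw [hOc, hn] at hodd
    exact (Nat.not_even_iff_odd.mpr hodd) (Nat.even_pow.mpr ⟨even_two, by omega⟩)
  have htrans : ∀ x ∈ A, ∀ y ∈ A, x ≠ 1 → y ≠ 1 → ∃ g ∈ N, g * x * g⁻¹ = y := by
    intro x hx y hy hx1 hy1
    obtain ⟨g, hg, rfl⟩ := htop x hx hx1
    obtain ⟨g', hg', rfl⟩ := htop y hy hy1
    exact ⟨g' * g⁻¹, mul_mem hg' (inv_mem hg), by group⟩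
  -- the bound
  have hbound : D.ncard ≤ n + 1 := by
    refine le_trans ?_ (ncard_le_of_transitive (A := A) (N := N) (fun x hx => hx.2.1)
      (fun g hg x hx => ctrInv_invariant hg hx) (solvable_normalizer_sylow S) (m := n)
      (by rw [hAcard, hn, pow_succ']) hzA hz1 haA htrans
      (B := {b : G | ∃ g ∈ N, g * z * g⁻¹ = z ∧ g * a * g⁻¹ = b}) fun b hb => hb)
    refine le_trans (Set.ncard_le_ncard (t := f '' _) fun d hd => ?_) Set.ncard_image_le
    obtain ⟨m, hm, hmz, e⟩ := hlift a haA.1 d hd.1 (hf_ord a haA.1 haA.2.1 ha1 haz)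
      (orderOf_two hd.2.1 hd.2.2)
    exact ⟨_, ⟨m, hm, hmz, rfl⟩, e⟩
  obtain rfl : n = 2 := by
    by_contra hne
    have hgrow : ∀ j, 3 ≤ j → j + 2 < 2 ^ j := fun j hj => by
      induction j, hj using Nat.le_induction with
      | base => norm_num
      | succ j _ ih => rw [pow_succ]; omega
    have := hgrow n (by omega)
    omega
  rw [show (2 : ℕ) ^ 2 = 4 from rfl] at hn
  -- an element of order a power of seven without fixed points
  have hO7 : O.ncard = 7 := by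
    have h1 : O = (A : Set G) \ {1} := Set.ext fun y =>
      ⟨fun hy => ⟨(hOmem y hy).1, (hOmem y hy).2⟩, fun hy => htop y hy.1 hy.2⟩
    have h2 := Set.ncard_sdiff_singleton_add_one (s := (A : Set G)) (one_mem A) (Set.toFinite _)
    rw [← h1, ← Nat.card_coe_set_eq] at h2
    change O.ncard + 1 = Nat.card ↥A at h2
    omega
  haveI : Fact (Nat.Prime 7) := ⟨by norm_num⟩
  obtain ⟨k, hkN, e, hk, hkz⟩ := hr 7 (by rw [hO7])
  have hfree : ∀ x ∈ A, k * x * k⁻¹ = x → x = 1 := by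
    intro x hx hkx
    by_contra hx1
    have hOk : ∀ y, y ∈ O ↔ k * y * k⁻¹ ∈ O := fun y => ⟨fun h => hOconj y h k hkN, fun h => by
      simpa [mul_assoc] using hOconj _ h k⁻¹ (inv_mem hkN)⟩
    have h1 := modEq_fixed k hk hOk
    rw [hO7] at h1
    have h2 : {y ∈ O | k * y * k⁻¹ = y} ⊂ O :=
      ⟨fun y hy => hy.1, fun h => hkz (h ⟨1, one_mem _, by simp⟩).2⟩
    have h3 := Set.ncard_lt_ncard h2
    have h4 : 0 < {y ∈ O | k * y * k⁻¹ = y}.ncard := (Set.ncard_pos).mpr ⟨x, htop x hx hx1, hkx⟩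
    rw [Nat.ModEq, Nat.mod_self] at h1
    omega
  have hS7 : Nat.card (S : Subgroup G) % 7 = 1 := by
    have h1 := modEq_fixed (T := ((S : Subgroup G) : Set G)) k hk
      fun y => (mem_normalizer_iff.mp hkN y)
    have h2 : {y ∈ ((S : Subgroup G) : Set G) | k * y * k⁻¹ = y} = {1} := by
      refine Set.eq_singleton_iff_unique_mem.mpr ⟨⟨one_mem _, by simp⟩, fun y hy => ?_⟩
      by_contra hy1
      let F : Subgroup G := (S : Subgroup G) ⊓ centralizer ({k} : Set G)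
      have hyF : y ∈ F := ⟨hy.1, mem_centralizer_singleton_iff.mpr (mul_inv_eq_iff_eq_mul.mp hy.2).symm⟩
      obtain ⟨w, hw, hw2⟩ := exists_invol (S.isPGroup'.to_le (inf_le_left : F ≤ _))
        fun e => hy1 ((eq_bot_iff_forall _).mp e y hyF)
      refine (orderOf_eq_iff two_pos).mp hw2 |>.2 1 one_lt_two one_pos ?_
      rw [pow_one]
      exact hfree w (hall w hw.1 (sq_eq_one hw2))
        (mul_inv_eq_iff_eq_mul.mpr (mem_centralizer_singleton_iff.mp hw.2).symm)
    rw [h2, Set.ncard_singleton, ← Nat.card_coe_set_eq] at h1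
    exact h1
  -- powers falling into the kernel are trivial
  have hpow : ∀ e' : ℕ, 0 < e' → (∀ x ∈ P, x ^ 2 ^ e' = 1) →
      ∀ x ∈ (S : Subgroup G), x ^ 2 ^ e' = 1 := by
    intro e' he' hexp x hx
    by_contra hne
    obtain ⟨t, ht, ht1, ht2⟩ := exists_order S.isPGroup' hx hne
    have himg : ∀ y ∈ (S : Subgroup G), ∀ j : ℕ, f (y ^ j) = f y ^ j := fun y hy j => by
      induction j with
      | zero => simp [hf1]
      | succ j ih => rw [pow_succ, hmul _ (pow_mem hy j) _ hy, ih, pow_succ]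
    have hcore : ∀ y ∈ (S : Subgroup G), y ^ 2 ^ e' * y ^ 2 ^ e' = 1 → y ^ 2 ^ e' ≠ 1 →
        y ^ 2 ^ e' = z := fun y hy h2 h1 =>
      (hker _ (pow_mem hy _) h2
        (by rw [himg y hy]; exact hexp _ ((hP _).mpr ⟨y, hy, rfl⟩))).resolve_left h1
    have hconj : (k * t * k⁻¹) ^ 2 ^ e' = k * t ^ 2 ^ e' * k⁻¹ := conj_pow
    have hz' := hcore t ht ht2 ht1
    have hkz' := hcore (k * t * k⁻¹) (hNS k hkN t ht)
      (by rw [hconj, hz', show k * z * k⁻¹ * (k * z * k⁻¹) = k * (z * z) * k⁻¹ by group,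
        sq_eq_one hz]; group)
      (by rw [hconj, hz']; exact fun e => hz1 (conj_eq_one_iff.mp e))
    rw [hconj, hz'] at hkz'
    exact hkz hkz'
  rcases hsize hn with h4 | ⟨h64, hexp⟩
  · have hPsq : ∀ d ∈ P, d * d = 1 := by
      intro d hd
      let emb : {y : Y // y ∈ P ∧ y * y = 1} → P := fun y => ⟨y.1, y.2.1⟩
      have hbij : Function.Bijective emb := (Nat.bijective_iff_injective_and_card emb).mpr
        ⟨fun u v e => Subtype.ext (congrArg Subtype.val e :), by rw [h4]; exact hn⟩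
      obtain ⟨⟨y, hy, hy2⟩, hyd⟩ := hbij.2 ⟨d, hd⟩
      rw [← show y = d from congrArg Subtype.val hyd]
      exact hy2
    have hsq : ∀ x ∈ (S : Subgroup G), x * x = 1 := fun x hx => by
      simpa [pow_two] using hpow 1 one_pos (fun d hd => by simpa [pow_two] using hPsq d hd) x hx
    have hSA : (S : Subgroup G) = A := le_antisymm (fun x hx => hall x hx (hsq x hx)) (ctrInv_le _)
    refine ⟨hsq, ?_, h4, fun x hx hx1 => htop x (hall x hx (hsq x hx)) hx1⟩
    rw [hSA, hAcard, hn]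
  · exfalso
    have hexp' : ∀ x ∈ P, x ^ 2 ^ 2 = 1 := fun x hx => by norm_num; exact hexp x hx
    have h256 : Nat.card (S : Subgroup G) ∣ 256 := by
      have := hker4 fun x hx => by simpa using hpow 2 two_pos hexp' x hx
      rwa [h64] at this
    have hgt : 64 < Nat.card (S : Subgroup G) := by
      rw [← h64]
      have hPim : (P : Set Y) = f '' ((S : Subgroup G) : Set G) := Set.ext fun d => hP d
      refine lt_of_le_of_ne ?_ fun heq => hz1 ?_
      · show Nat.card ↥(P : Set Y) ≤ Nat.card ↥((S : Subgroup G) : Set G)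
        rw [Nat.card_coe_set_eq, Nat.card_coe_set_eq, hPim]
        exact Set.ncard_image_le
      · have hinj : Set.InjOn f ((S : Subgroup G) : Set G) :=
          Set.injOn_of_ncard_image_eq (by
            rw [← hPim, ← Nat.card_coe_set_eq, ← Nat.card_coe_set_eq]
            exact heq) (Set.toFinite _)
        exact hinj hzA.1 (one_mem _) (hfz.trans hf1.symm)
    obtain ⟨j, hj, hj'⟩ := (Nat.dvd_prime_pow Nat.prime_two).mp
      (show Nat.card (S : Subgroup G) ∣ 2 ^ 8 by norm_num; exact h256)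
    rw [hj'] at hS7 hgt
    interval_cases j <;> omega

end Cfsg.Agent.H60.CycInt
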