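import Cfsg.Agent.H60.CycInt.Induction

/-!
# Nonsolvable groups with cyclic Sylow 2-intersections

Modulo the solvable radical the socle is one of the five types and has odd index (S3308, given the
recognition of `U₃(4)` by its Sylow 2-subgroup).
-/

set_option autoImplicit false
set_option linter.style.haveILetI false
set_option linter.unusedSectionVars false

namespace Cfsg.Agent.H60.CycInt

open Subgroup Cfsg.Agent.H24.CycInt
open Cfsg.Agent.H74.CycInt (FiveTypes)

universe u

/-- **S3308**, given the recognition of `U₃(4)`. -/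
theorem structure_of_uThreeFour (hU : UThreeFourHyp.{u}) {G : Type u} [Group G] [Finite G]
    (hns : ¬ Group.IsSolvable G)
    (hC : ∀ S T : Sylow 2 G, S ≠ T → IsCyclic ↥((S : Subgroup G) ⊓ (T : Subgroup G)))
    (R : Subgroup G) [R.Normal] (hR : Group.IsSolvable ↥R)
    (hRmax : ∀ N : Subgroup G, N.Normal → Group.IsSolvable ↥N → N ≤ R) :
    ∃ (G₁ : Subgroup G) (_ : G₁.Normal) (_ : (R.subgroupOf G₁).Normal), Odd G₁.index ∧ R ≤ G₁ ∧
      IsSimpleGroup (↥G₁ ⧸ R.subgroupOf G₁) ∧ ¬ IsMulCommutative (↥G₁ ⧸ R.subgroupOf G₁) ∧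
      FiveTypes (↥G₁ ⧸ R.subgroupOf G₁) := by
  classical
  have hci : CI (G ⧸ R) := H24.CycInt.CI.quotient hC R
  obtain ⟨L, hLn, hLs, hLna, hLC⟩ := exists_socle hci (not_solvable_quotient hR hns)
    (radFree_quotient hR hRmax)
  haveI := hLn
  haveI := hLs
  have hfive : FiveTypes ↥L := fiveTypes_of_simple hU ↥L hLna (H24.CycInt.CI.subgroup hci L)
  have hodd : Odd L.index := odd_index_socle hci L hLna hLC hfive
  set π := QuotientGroup.mk' R with hπ
  have hπs : Function.Surjective π := QuotientGroup.mk'_surjective R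
  set G₁ := L.comap π with hG₁
  have hRG : R ≤ G₁ := fun r hr => by
    show π r ∈ L
    rw [hπ, QuotientGroup.mk'_apply, (QuotientGroup.eq_one_iff r).mpr hr]
    exact L.one_mem
  set ψ : ↥G₁ →* ↥L := π.subgroupComap L with hψ
  have hψs : Function.Surjective ψ := fun ⟨z, hz⟩ => by
    obtain ⟨y, rfl⟩ := hπs z
    exact ⟨⟨y, hz⟩, rfl⟩
  have hker : ψ.ker = R.subgroupOf G₁ := by
    ext x
    rw [MonoidHom.mem_ker, mem_subgroupOf, ← QuotientGroup.eq_one_iff, Subtype.ext_iff]
    rfl
  haveI hRn : (R.subgroupOf G₁).Normal := normal_subgroupOf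
  let e : ↥G₁ ⧸ R.subgroupOf G₁ ≃* ↥L :=
    (QuotientGroup.quotientMulEquivOfEq hker.symm).trans
      (QuotientGroup.quotientKerEquivOfSurjective ψ hψs)
  haveI : Nontrivial (↥G₁ ⧸ R.subgroupOf G₁) := e.toEquiv.nontrivial
  refine ⟨G₁, inferInstance, hRn, ?_, hRG, ?_, ?_, hfive.congr e.symm⟩
  · rwa [hG₁, index_comap_of_surjective _ hπs]
  · exact IsSimpleGroup.isSimpleGroup_of_surjective e.symm.toMonoidHom e.symm.surjective
  · intro hc
    exact hLna ⟨⟨fun a b => e.symm.injective
      (by rw [map_mul, map_mul]; exact hc.is_comm.comm _ _)⟩⟩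

end Cfsg.Agent.H60.CycInt
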