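import Cfsg.Agent.H60.CycInt.Nonsolvable

/-!
# Simple groups with cyclic Sylow 2-intersections are typed
-/

set_option autoImplicit false
set_option linter.style.haveILetI false
set_option linter.unusedSectionVars false

namespace Cfsg.Agent.H60.CycInt

open Subgroup Cfsg.Agent.H24.CycInt

local instance fact_two_induction : Fact (Nat.Prime 2) := ⟨Nat.prime_two⟩

universe u

theorem typed_of_simple (hU : UThreeFourHyp.{u}) : ∀ (n : ℕ) (G : Type u) [Group G] [Finite G]
    [IsSimpleGroup G], Nat.card G = n → ¬ IsMulCommutative G → CI G → Typed G := by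
  intro n
  induction n using Nat.strong_induction_on with
  | _ n IH =>
    intro G _ _ _ hn hna h
    obtain ⟨S⟩ : Nonempty (Sylow 2 G) := inferInstance
    rcases se_or_bad hna h S with hSE | ⟨z, hzA, hz, hbad⟩
    · exact Or.inl hSE
    by_cases hsol : Group.IsSolvable ↥(centralizer ({z} : Set G))
    · obtain ⟨h1, h2⟩ := four_of_solvable hna h S hzA hz hbad hsol
      exact Or.inr ⟨h1, Or.inl h2⟩
    · obtain ⟨h1, h2⟩ := nonsolvable_case hU hna h
        (fun L _ _ _ hlt hLna hL => IH (Nat.card L) (hn ▸ hlt) L rfl hLna hL) S hzA hz hbad hsol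
      exact Or.inr ⟨h1, Or.inr h2⟩

theorem fiveTypes_of_simple (hU : UThreeFourHyp.{u}) (G : Type u) [Group G] [Finite G]
    [IsSimpleGroup G] (hna : ¬ IsMulCommutative G) (h : CI G) : H74.CycInt.FiveTypes G :=
  list_of_typed hU hna (typed_of_simple hU _ G rfl hna h)

end Cfsg.Agent.H60.CycInt
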