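import Cfsg.Agent.H60.CycInt.Simple
import Cfsg.Agent.H24.Gaschuetz
import Cfsg.Agent.S0448
import Cfsg.Agent.S1174

/-!
# Sylow 2-subgroups of order eight and centralisers with quotient `A₅`: the first Janko group

The odd core of the centraliser is centralised by the centralisers of all involutions of the Sylow
2-subgroup, so it is trivial, and the centraliser is `Z₂ × A₅`.
-/

set_option autoImplicit false
set_option linter.style.haveILetI false
set_option linter.unusedSectionVars false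

namespace Cfsg.Agent.H60.CycInt

open Subgroup Cfsg.Agent.H24.CycInt
open scoped Pointwise

local instance fact_two_janko : Fact (Nat.Prime 2) := ⟨Nat.prime_two⟩

universe u

theorem altFive_centralizer' : ∀ a : Equiv.Perm (Fin 5), a * a = 1 → a ≠ 1 → Equiv.Perm.sign a = 1 →
    ∀ y : Equiv.Perm (Fin 5), a * y = y * a → Equiv.Perm.sign y = 1 → y * y = 1 := by
  decide +kernel

theorem altFive_centralizer (a y : alternatingGroup (Fin 5)) (ha : a * a = 1) (ha1 : a ≠ 1)
    (hc : a * y = y * a) : y * y = 1 :=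
  Subtype.ext (altFive_centralizer' a (congrArg Subtype.val ha) (fun e => ha1 (Subtype.ext e))
    (Equiv.Perm.mem_alternatingGroup.mp a.2) y (congrArg Subtype.val hc)
    (Equiv.Perm.mem_alternatingGroup.mp y.2))

variable {G : Type u} [Group G] [Finite G]

/-- The odd core of the centraliser of `z` is trivial. -/
theorem oddCore_centralizer_eq_bot [IsSimpleGroup G] (hna : ¬ IsMulCommutative G) (h : CI G)
    (S : Sylow 2 G) {z : G}
    (hzS : z ∈ (S : Subgroup G)) (hz : orderOf z = 2) (hbad : ¬ Good z)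
    (hsq : ∀ x ∈ (S : Subgroup G), x * x = 1) (h8 : Nat.card (S : Subgroup G) = 8)
    (htrans : ∀ x ∈ (S : Subgroup G), x ≠ 1 →
      ∃ n ∈ normalizer ((S : Subgroup G) : Set G), n * z * n⁻¹ = x)
    (C : Subgroup G) (hC : C = centralizer ({z} : Set G)) (hns : ¬ Group.IsSolvable ↥C)
    (π : ↥C →* alternatingGroup (Fin 5)) (hker : π.ker = Cfsg.solvableRadical ↥C) :
    Cfsg.oddCore ↥C = ⊥ := by
  classical
  have hmemC : ∀ c : G, c ∈ C ↔ Commute c z := fun c => hC ▸ commute_iff_mem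
  have hcomm : ∀ a ∈ (S : Subgroup G), ∀ b ∈ (S : Subgroup G), Commute a b := fun a ha b hb => by
    show a * b = b * a
    rw [← inv_eq_of_mul_eq_one_right (hsq _ (mul_mem ha hb)), mul_inv_rev,
      inv_eq_of_mul_eq_one_right (hsq a ha), inv_eq_of_mul_eq_one_right (hsq b hb)]
  have hSC : (S : Subgroup G) ≤ C := fun s hs => (hmemC s).mpr (hcomm s hs z hzS)
  set O := (Cfsg.oddCore ↥C).map C.subtype with hO
  have hOodd : Odd (Nat.card O) := by
    rw [hO, Subgroup.card_subtype]; exact Cores.odd_card_oddCore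
  haveI hOn : (Cfsg.oddCore ↥C).Normal :=
    @normal_of_characteristic _ _ _ Cores.pPrimeCore_characteristic
  have hCN : C ≤ normalizer (O : Set G) := by
    have key : ∀ c ∈ C, ∀ x ∈ O, c * x * c⁻¹ ∈ O := by
      rintro c hc _ ⟨o, ho, rfl⟩
      exact ⟨⟨c, hc⟩ * o * ⟨c, hc⟩⁻¹, hOn.conj_mem _ ho _, rfl⟩
    exact fun c hc => mem_normalizer_iff.mpr fun x => ⟨key c hc x, fun hx => by
      simpa [mul_assoc] using key c⁻¹ (inv_mem hc) _ hx⟩
  have hOS : ∀ o ∈ O, ∀ s ∈ (S : Subgroup G), Commute o s := fun o ho s hs =>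
    commute_of_odd_normalizer hOodd
      (le_normalizer_of_elem h le_rfl hsq (by rw [h8]) hz hzS hOodd (hSC.trans hCN)
        (by rintro _ ⟨o, -, rfl⟩; exact (hmemC _).mp o.2))
      hs (hCN (hSC hs)) ho
  -- an element of `S` outside the radical
  obtain ⟨s₀, hs₀, hπs₀⟩ : ∃ s : ↥C, (s : G) ∈ (S : Subgroup G) ∧ π s ≠ 1 := by
    by_contra hno
    push Not at hno
    have hle : ((S.subtype hSC : Sylow 2 ↥C) : Subgroup ↥C) ≤ Cfsg.solvableRadical ↥C :=
      fun s hs => hker ▸ MonoidHom.mem_ker.mpr (hno s hs)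
    refine not_cyclic_of_sq (P := ((S.subtype hSC : Sylow 2 ↥C) : Subgroup ↥C))
      (fun x hx => Subtype.ext (hsq x hx)) ?_
      (H24.CycInt.isCyclic_of_le (le_inf le_rfl hle)
        (isCyclic_inf_rad (H24.CycInt.CI.subgroup h C) hns _))
    show 3 ≤ Nat.card ((S : Subgroup G).subgroupOf C)
    rw [Nat.card_congr (Subgroup.subgroupOfEquivOfLe hSC).toEquiv, h8]; norm_num
  have hconj : ∀ n ∈ normalizer ((S : Subgroup G) : Set G), ∀ o ∈ O, n * o * n⁻¹ ∈ O := by
    intro n hn o ho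
    have hc : ∀ s ∈ (S : Subgroup G), Commute (n * o * n⁻¹) s := fun s hs => by
      have h1 := (hOS o ho (n⁻¹ * s * n) (by
        simpa using (mem_normalizer_iff.mp (inv_mem hn) s).mp hs)).map (MulAut.conj n).toMonoidHom
      simpa [mul_assoc] using h1
    set c : ↥C := ⟨n * o * n⁻¹, (hmemC _).mpr (hc z hzS)⟩
    have hco : Odd (orderOf c) := by
      rw [← Subgroup.orderOf_coe]
      show Odd (orderOf (n * o * n⁻¹))
      rw [orderOf_inv_conj]
      exact hOodd.of_dvd_nat (orderOf_dvd_natCard (⟨o, ho⟩ : O) |> fun h => by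
        rwa [Subgroup.orderOf_mk] at h)
    have h2 : π s₀ * π c = π c * π s₀ := by
      rw [← map_mul, ← map_mul, show s₀ * c = c * s₀ from Subtype.ext (hc _ hs₀).symm.eq]
    have h3 := altFive_centralizer (π s₀) (π c)
      (by rw [← map_mul, show s₀ * s₀ = 1 from Subtype.ext (hsq _ hs₀), map_one]) hπs₀ h2
    have h4 : π c = 1 := by
      rw [← orderOf_eq_one_iff]
      exact Nat.eq_one_of_dvd_coprimes (Nat.coprime_two_left.mpr hco)
        (orderOf_dvd_of_pow_eq_one (by rw [pow_two]; exact h3)) (orderOf_map_dvd π c)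
    exact ⟨c, mem_oddCore_of_odd_rad (H24.CycInt.CI.subgroup h C) hns
      (hker ▸ MonoidHom.mem_ker.mpr h4) hco, rfl⟩
  by_contra hne
  have hO1 : O ≠ ⊥ := fun e => hne ((map_eq_bot_iff_of_injective _ C.subtype_injective).mp e)
  have hSe : (S : Subgroup G) ≠ ⊥ := fun e => by rw [e, card_bot] at h8; omega
  have hSE : ∃ H : Subgroup G, Cfsg.IsStronglyEmbedded H := by
    refine S1174.result S (S : Subgroup G) hSe ⟨le_rfl, fun x _ g hg => hg⟩ fun htop => ?_
    have hle : (⨆ t : {t : G // t ∈ (S : Subgroup G) ∧ orderOf t = 2},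
        centralizer ({(t : G)} : Set G)) ≤ normalizer (O : Set G) := by
      refine iSup_le fun t => ?_
      obtain ⟨n, hn, hnt⟩ := htrans t t.2.1 fun e => by
        have := t.2.2; rw [e, orderOf_one] at this; omega
      have hnN : n ∈ normalizer (O : Set G) := mem_normalizer_iff.mpr fun o =>
        ⟨hconj n hn o, fun ho => by simpa [mul_assoc] using hconj n⁻¹ (inv_mem hn) _ ho⟩
      intro c hc
      have h1 : n⁻¹ * c * n ∈ C := (hmemC _).mpr (by
        have h2 := (commute_iff_mem.mp hc).map (MulAut.conj n⁻¹).toMonoidHom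
        simpa [← hnt, mul_assoc] using h2)
      simpa [mul_assoc] using mul_mem (mul_mem hnN (hCN h1)) (inv_mem hnN)
    rw [htop, top_le_iff, normalizer_eq_top_iff] at hle
    rcases hle.eq_bot_or_eq_top with e | e
    · exact hO1 e
    · rw [e, card_top] at hOodd
      have h2 : 2 ∣ Nat.card G :=
        (show 2 ∣ Nat.card (S : Subgroup G) by rw [h8]; norm_num).trans (card_subgroup_dvd_card _)
      exact absurd hOodd (Nat.not_odd_iff_even.mpr (even_iff_two_dvd.mpr h2))
  exact hbad (good_of_se hna hSE hz)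

/-- **The recognition of `J₁`.** -/
theorem janko_of_data [IsSimpleGroup G] (hna : ¬ IsMulCommutative G) (h : CI G) (S : Sylow 2 G)
    {z : G} (hzS : z ∈ (S : Subgroup G)) (hz : orderOf z = 2) (hbad : ¬ Good z)
    (hsq : ∀ x ∈ (S : Subgroup G), x * x = 1) (h8 : Nat.card (S : Subgroup G) = 8)
    (htrans : ∀ x ∈ (S : Subgroup G), x ≠ 1 →
      ∃ n ∈ normalizer ((S : Subgroup G) : Set G), n * z * n⁻¹ = x)
    (C : Subgroup G) (hC : C = centralizer ({z} : Set G)) (hns : ¬ Group.IsSolvable ↥C)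
    (π : ↥C →* alternatingGroup (Fin 5)) (hπ : Function.Surjective π)
    (hker : π.ker = Cfsg.solvableRadical ↥C) : Cfsg.IsJ1 G := by
  classical
  have hO := oddCore_centralizer_eq_bot hna h S hzS hz hbad hsq h8 htrans C hC hns π hker
  have hmemC : ∀ c : G, c ∈ C ↔ Commute c z := fun c => hC ▸ commute_iff_mem
  have hinv : ∀ a ∈ (S : Subgroup G), a⁻¹ = a := fun a ha =>
    inv_eq_of_mul_eq_one_right (hsq a ha)
  have hcomm : ∀ a ∈ (S : Subgroup G), ∀ b ∈ (S : Subgroup G), Commute a b := fun a ha b hb => by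
    show a * b = b * a
    rw [← hinv _ (mul_mem ha hb), mul_inv_rev, hinv a ha, hinv b hb]
  have hSC : (S : Subgroup G) ≤ C := fun s hs => (hmemC s).mpr (hcomm s hs z hzS)
  have hciC : CI ↥C := H24.CycInt.CI.subgroup h C
  set W := S.subtype hSC with hW
  have hWmem : ∀ x : ↥C, x ∈ (W : Subgroup ↥C) ↔ (x : G) ∈ (S : Subgroup G) := fun x => Iff.rfl
  have hW8 : Nat.card (W : Subgroup ↥C) = 8 :=
    (Nat.card_congr (Subgroup.subgroupOfEquivOfLe hSC).toEquiv).trans h8
  set R := π.ker with hRdef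
  have hRp : IsPGroup 2 R := by
    intro r
    obtain ⟨a, m, hm, e⟩ := Nat.exists_eq_two_pow_mul_odd (orderOf_pos (r : ↥C)).ne'
    refine ⟨a, Subtype.ext ?_⟩
    have h1 : orderOf ((r : ↥C) ^ 2 ^ a) = m := by
      rw [orderOf_pow_of_dvd (pow_ne_zero _ two_ne_zero) (e ▸ dvd_mul_right _ _), e,
        Nat.mul_div_cancel_left _ (pow_pos two_pos _)]
    have h2 := mem_oddCore_of_odd_rad hciC hns (r := (r : ↥C) ^ 2 ^ a)
      (hker ▸ pow_mem r.2 _) (h1 ▸ hm)
    rw [hO, mem_bot] at h2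
    simpa using h2
  have hRW : R ≤ (W : Subgroup ↥C) := by
    obtain ⟨V, hV⟩ := hRp.exists_le_sylow
    obtain ⟨g, rfl⟩ := MulAction.exists_smul_eq ↥C W V
    intro r hr
    have h1 := H24.CycInt.mem_smul_iff.mp
      (hV ((MonoidHom.normal_ker π).conj_mem r hr g))
    rw [show g⁻¹ * (g * r * g⁻¹) * g = r by group] at h1
    exact h1
  set zC : ↥C := ⟨z, hSC hzS⟩ with hzC
  have hzC2 : orderOf zC = 2 := by rw [hzC, Subgroup.orderOf_mk]; exact hz
  have hzc : ∀ c : ↥C, Commute c zC := fun c => Subtype.ext ((hmemC _).mp c.2).eq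
  have hzR : zC ∈ R := by
    rw [hker]
    exact le_rad (N := zpowers zC) ⟨fun x hx g => by
      obtain ⟨i, rfl⟩ := mem_zpowers_iff.mp hx
      rw [((hzc g).zpow_right i).eq, mul_inv_cancel_right]
      exact zpow_mem (mem_zpowers _) i⟩ (Group.isSolvable_of_comm mul_comm') (mem_zpowers _)
  have hRcyc : IsCyclic R :=
    H24.CycInt.isCyclic_of_le (le_inf hRW hker.le) (isCyclic_inf_rad hciC hns W)
  have hRel : ∀ r ∈ R, r = 1 ∨ r = zC := by
    intro r hr
    by_contra hh
    push Not at hh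
    exact not_cyclic_of_two hr hzR
      (orderOf_two (Subtype.ext (hsq _ (hRW hr))) hh.1) hzC2 hh.2 hRcyc
  have hz1 : zC ≠ 1 := fun e => by rw [e, orderOf_one] at hzC2; omega
  have hR2 : Nat.card R = 2 := by
    refine Nat.card_eq_two_iff.mpr ⟨1, ⟨zC, hzR⟩, fun e => hz1 (congrArg Subtype.val e).symm, ?_⟩
    refine Set.eq_univ_of_forall fun x => ?_
    rcases hRel x.1 x.2 with e | e
    · exact Or.inl (Subtype.ext e)
    · exact Or.inr (Subtype.ext e)
  have h120 : Nat.card ↥C = 120 := by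
    rw [← Subgroup.card_mul_index R, hR2, hRdef, Subgroup.index_ker,
      MonoidHom.range_eq_top.mpr hπ, Subgroup.card_top, nat_card_alternatingGroup, Nat.card_eq_fintype_card,
      Fintype.card_fin]
    norm_num [Nat.factorial]
  -- a complement of the radical in the Sylow 2-subgroup
  have hWsq : ∀ x ∈ (W : Subgroup ↥C), x * x = 1 := fun x hx => Subtype.ext (hsq x hx)
  have hWcomm : ∀ a ∈ (W : Subgroup ↥C), ∀ b ∈ (W : Subgroup ↥C), Commute a b := fun a ha b hb =>
    Subtype.ext (hcomm a ha b hb).eq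
  have hfib : ∀ x ∈ (W : Subgroup ↥C), ∀ a ∈ (W : Subgroup ↥C), π x = π a → x = a ∨ x = a * zC := by
    intro x hx a ha e
    rcases hRel (a⁻¹ * x) (by
      rw [hRdef, MonoidHom.mem_ker, map_mul, map_inv, e, inv_mul_cancel]) with h1 | h1
    · exact Or.inl (inv_mul_eq_one.mp h1).symm
    · exact Or.inr (by rw [← h1, mul_inv_cancel_left])
  obtain ⟨a, ha, b, hb, hπa, hπb, hπab⟩ : ∃ a ∈ (W : Subgroup ↥C), ∃ b ∈ (W : Subgroup ↥C),
      π a ≠ 1 ∧ π b ≠ 1 ∧ π a ≠ π b := by
    by_contra hno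
    push Not at hno
    obtain ⟨a, ha⟩ : ∃ a, a ∈ (W : Subgroup ↥C) ∧ π a ≠ 1 := by
      by_contra hno'
      push Not at hno'
      have := Subgroup.card_le_of_le (show (W : Subgroup ↥C) ≤ R from fun x hx => hno' x hx)
      omega
    have hsub : ((W : Subgroup ↥C) : Set ↥C) ⊆ {1, zC, a, a * zC} := by
      intro x hx
      by_cases hx1 : π x = 1
      · rcases hRel x hx1 with e | e
        · exact Or.inl e
        · exact Or.inr (Or.inl e)
      · rcases hfib x hx a ha.1 (hno a ha.1 x hx ha.2 hx1).symm with e | e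
        · exact Or.inr (Or.inr (Or.inl e))
        · exact Or.inr (Or.inr (Or.inr e))
    have h4 : ({1, zC, a, a * zC} : Set ↥C).ncard ≤ 4 := by
      refine (Set.ncard_insert_le _ _).trans (Nat.succ_le_succ ?_)
      refine (Set.ncard_insert_le _ _).trans (Nat.succ_le_succ ?_)
      exact (Set.ncard_insert_le _ _).trans (by rw [Set.ncard_singleton])
    have h5 := (Set.ncard_le_ncard hsub (Set.toFinite _)).trans h4
    rw [← Nat.card_coe_set_eq] at h5
    change Nat.card ↥(W : Subgroup ↥C) ≤ 4 at h5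
    omega
  set A := fourSub a b (hWsq a ha) (hWsq b hb) (hWcomm a ha b hb) with hA
  have hAW : A ≤ (W : Subgroup ↥C) := fourSub_le ha hb
  have hAR : A ⊓ R = ⊥ := by
    rw [eq_bot_iff]
    rintro x ⟨hxA, hxR⟩
    rcases (mem_fourSub.mp hxA) with rfl | rfl | rfl | rfl
    · exact one_mem _
    · exact absurd hxR hπa
    · exact absurd hxR hπb
    · refine absurd ?_ hπab
      have h1 : π a * π b = 1 := by rw [← map_mul]; exact hxR
      rw [← inv_eq_of_mul_eq_one_left h1, inv_eq_iff_mul_eq_one, ← map_mul, hWsq b hb,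
        map_one]
  haveI hRn : R.Normal := MonoidHom.normal_ker π
  have hset : H24.Gaschuetz.Setup R (W : Subgroup ↥C) A := by
    refine ⟨hRn, ⟨⟨fun x y => Subtype.ext (hWcomm x (hRW x.2) y (hRW y.2)).eq⟩⟩, hRW, hAW, hAR, ?_⟩
    refine le_antisymm (sup_le hRW hAW) fun x hx => ?_
    have hz' : zC ∈ R ⊔ A := mem_sup_left hzR
    have ha' : a ∈ R ⊔ A := mem_sup_right (Or.inr (Or.inl rfl))
    have hb' : b ∈ R ⊔ A := mem_sup_right (Or.inr (Or.inr (Or.inl rfl)))
    -- the eight products fill `W`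
    let g : Fin 2 × Fin 2 × Fin 2 → (W : Subgroup ↥C) := fun i =>
      ⟨zC ^ (i.1 : ℕ) * (a ^ (i.2.1 : ℕ) * b ^ (i.2.2 : ℕ)),
        mul_mem (pow_mem (hRW hzR) _) (mul_mem (pow_mem ha _) (pow_mem hb _))⟩
    have hπz : π zC = 1 := hzR
    have hg : Function.Injective g := by
      rintro ⟨i, j, k⟩ ⟨i', j', k'⟩ e
      have e1 : zC ^ (i : ℕ) * (a ^ (j : ℕ) * b ^ (k : ℕ)) =
          zC ^ (i' : ℕ) * (a ^ (j' : ℕ) * b ^ (k' : ℕ)) := congrArg Subtype.val e
      have e2 := congrArg π e1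
      simp only [map_mul, map_pow, hπz, one_pow, one_mul] at e2
      have hb2 : π b * π b = 1 := by rw [← map_mul, hWsq b hb, map_one]
      have hne' : π a * π b ≠ 1 := fun h1 => hπab (by
        rw [← mul_right_cancel (h1.trans hb2.symm)])
      obtain ⟨rfl, rfl⟩ : j = j' ∧ k = k' := by
        fin_cases j <;> fin_cases j' <;> fin_cases k <;> fin_cases k' <;>
          simp [hπa, hπb, hπab, hne', Ne.symm hπa, Ne.symm hπb, Ne.symm hπab, Ne.symm hne']
            at e2 ⊢
      have e3 := mul_right_cancel e1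
      fin_cases i <;> fin_cases i' <;> simp [hz1, Ne.symm hz1] at e3 ⊢
    obtain ⟨i, hi⟩ := ((Nat.bijective_iff_injective_and_card g).mpr
      ⟨hg, by rw [hW8]; simp⟩).2 ⟨x, hx⟩
    rw [← show _ = x from congrArg Subtype.val hi]
    exact mul_mem (pow_mem hz' _) (mul_mem (pow_mem ha' _) (pow_mem hb' _))
  obtain ⟨H, hH⟩ := H24.Gaschuetz.exists_complement hset (by
    rw [hR2]
    exact (Nat.prime_two.coprime_iff_not_dvd).mpr W.not_dvd_index)
  have hHi : H.index = 2 := by rw [hH.index_eq_card]; exact hR2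
  haveI : H.Normal := Subgroup.normal_of_index_eq_two hHi
  haveI : IsCyclic (↥C ⧸ H) := isCyclic_of_prime_card (p := 2) hHi
  set φ : ↥C →* (↥C ⧸ H) × alternatingGroup (Fin 5) := (QuotientGroup.mk' H).prod π
  have hφ : Function.Injective φ := (injective_iff_map_eq_one φ).mpr fun x hx => by
    have h1 : x ∈ R ⊓ H := ⟨congrArg Prod.snd hx,
      (QuotientGroup.eq_one_iff _).mp (congrArg Prod.fst hx)⟩
    rwa [hH.disjoint.eq_bot, mem_bot] at h1
  have hbij : Function.Bijective φ := (Nat.bijective_iff_injective_and_card φ).mpr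
    ⟨hφ, by
      rw [Nat.card_prod, h120, show Nat.card (↥C ⧸ H) = 2 from hHi, nat_card_alternatingGroup,
        Nat.card_eq_fintype_card, Fintype.card_fin]
      norm_num [Nat.factorial]⟩
  let e₂ : Multiplicative (ZMod 2) ≃* ↥C ⧸ H :=
    mulEquivOfCyclicCardEq (((Nat.card_congr Multiplicative.toAdd).trans (Nat.card_zmod 2)).trans hHi.symm)
  subst hC
  exact S0448.result z ⟨hz, S, hzS, fun x hx => (hcomm x hx z hzS).eq⟩
    ((MulEquiv.ofBijective φ hbij).trans (MulEquiv.prodCongr e₂.symm (MulEquiv.refl _)))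

end Cfsg.Agent.H60.CycInt
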