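import Cfsg.Agent.H60.CycInt.Radical
import Cfsg.Agent.H74.CycInt.Reduce

/-!
# Sylow 2-subgroups along a surjection and along the socle

Lifts of normalisers and of intersections of Sylow 2-subgroups, and the odd index of the socle.
-/

set_option autoImplicit false
set_option linter.style.haveILetI false
set_option linter.unusedSectionVars false

namespace Cfsg.Agent.H60.CycInt

open Subgroup Cfsg.Agent.H24.CycInt
open scoped Pointwise

local instance fact_two_lift : Fact (Nat.Prime 2) := ⟨Nat.prime_two⟩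

universe u

variable {Y : Type u} [Group Y] [Finite Y]

/-- A 2-subgroup lies in every normal subgroup of odd index. -/
theorem le_of_odd_index {X : Subgroup Y} [X.Normal] (hodd : Odd X.index) {Q : Subgroup Y}
    (hQ : IsPGroup 2 Q) : Q ≤ X := by
  intro x hx
  obtain ⟨k, hk⟩ := hQ ⟨x, hx⟩
  have h1 : orderOf (QuotientGroup.mk' X x) ∣ 2 ^ k := orderOf_dvd_of_pow_eq_one (by
    rw [← map_pow, show x ^ 2 ^ k = 1 from congrArg Subtype.val hk, map_one])
  have h2 : orderOf (QuotientGroup.mk' X x) ∣ X.index := orderOf_dvd_natCard _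
  have h3 := Nat.eq_one_of_dvd_coprimes ((Nat.coprime_two_left.mpr hodd).pow_left k) h1 h2
  rw [orderOf_eq_one_iff, QuotientGroup.mk'_apply, QuotientGroup.eq_one_iff] at h3
  exact h3

/-- An element bad in a subgroup is bad in the group. -/
theorem bad_of_bad_subgroup {X : Subgroup Y} {d : X} (h : ¬ Good d) : ¬ Good (d : Y) := by
  intro hg
  refine h fun S T hS hT => ?_
  obtain ⟨S', hS'⟩ := (S.isPGroup'.map X.subtype).exists_le_sylow
  obtain ⟨T', hT'⟩ := (T.isPGroup'.map X.subtype).exists_le_sylow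
  have he : S' = T' := hg S' T' (hS' ⟨d, hS, rfl⟩) (hT' ⟨d, hT, rfl⟩)
  subst he
  have hp : IsPGroup 2 ((S' : Subgroup Y).subgroupOf X) := S'.isPGroup'.comap_subtype
  exact Sylow.ext ((S.is_maximal' hp fun x hx => hS' ⟨x, hx, rfl⟩).symm.trans
    (T.is_maximal' hp fun x hx => hT' ⟨x, hx, rfl⟩))

/-- The socle of a group with cyclic Sylow 2-intersections has odd index once it is on the list. -/
theorem odd_index_socle (hci : CI Y) (X : Subgroup Y) [X.Normal] [IsSimpleGroup ↥X]
    (hna : ¬ IsMulCommutative ↥X) (hC : centralizer (X : Set Y) = ⊥)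
    (hfive : H74.CycInt.FiveTypes ↥X) : Odd X.index := by
  refine H74.CycInt.odd_index_of_unique hC (H74.CycInt.innerTwoHyp_of_list hna hfive) fun S T h => ?_
  by_contra hne
  obtain ⟨Q, hQ⟩ := S0542.result 2 X (Subgroup.Normal.isSubnormal inferInstance) S
  have hcy : IsCyclic ↥((S : Subgroup Y) ⊓ X) :=
    H24.CycInt.isCyclic_of_le (le_inf inf_le_left (h.le.trans inf_le_left)) (hci S T hne)
  refine sylow_not_cyclic_of_perfectSimple hna Q ?_
  rw [hQ]
  haveI : IsCyclic ↥(((S : Subgroup Y).subgroupOf X).map X.subtype) := by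
    rw [subgroupOf_map_subtype]; exact hcy
  exact isCyclic_of_surjective _
    (((S : Subgroup Y).subgroupOf X).equivMapOfInjective _ X.subtype_injective).symm.surjective

variable {K : Type u} [Group K] [Finite K] {π : K →* Y} (hπ : Function.Surjective π)
include hπ

/-- Two Sylow 2-subgroups of the preimage of a Sylow 2-subgroup are conjugate in that preimage. -/
theorem exists_conj_in_preimage (W V : Sylow 2 K)
    (hV : ∀ x ∈ (V : Subgroup K), π x ∈ ((W.mapSurjective hπ : Sylow 2 Y) : Subgroup Y)) :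
    ∃ k : K, π k ∈ ((W.mapSurjective hπ : Sylow 2 Y) : Subgroup Y) ∧ k • W = V := by
  set M := ((W.mapSurjective hπ : Sylow 2 Y) : Subgroup Y).comap π with hM
  have hWM : (W : Subgroup K) ≤ M := fun x hx => by
    rw [hM, mem_comap, Sylow.coe_mapSurjective]
    exact mem_map_of_mem π hx
  have hVM : (V : Subgroup K) ≤ M := hV
  obtain ⟨k, hk⟩ := MulAction.exists_smul_eq M (W.subtype hWM) (V.subtype hVM)
  refine ⟨(k : K), k.2, Sylow.ext ?_⟩
  refine V.is_maximal' ((k : K) • W).isPGroup' fun x hx => ?_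
  have h1 : (⟨x, hVM hx⟩ : M) ∈ ((V.subtype hVM : Sylow 2 M) : Subgroup M) := hx
  rw [← hk] at h1
  have h2 := H24.CycInt.mem_smul_iff.mp h1
  exact H24.CycInt.mem_smul_iff.mpr h2

/-- Normalisers of Sylow 2-subgroups map onto normalisers. -/
theorem exists_lift_normalizer (W : Sylow 2 K) {n : Y}
    (hn : n ∈ normalizer (((W.mapSurjective hπ : Sylow 2 Y) : Subgroup Y) : Set Y)) :
    ∃ m ∈ normalizer ((W : Subgroup K) : Set K), π m = n := by
  obtain ⟨m, rfl⟩ := hπ n
  obtain ⟨k, hk, hkW⟩ := exists_conj_in_preimage hπ W (m • W) fun x hx => by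
    have h1 : π (m⁻¹ * x * m) ∈ ((W.mapSurjective hπ : Sylow 2 Y) : Subgroup Y) := by
      rw [Sylow.coe_mapSurjective]
      exact mem_map_of_mem π (H24.CycInt.mem_smul_iff.mp hx)
    have h2 := (mem_normalizer_iff.mp hn _).mp h1
    simpa [map_mul, map_inv, mul_assoc] using h2
  rw [Sylow.coe_mapSurjective] at hk
  obtain ⟨w, hw, hwk⟩ := hk
  refine ⟨w * (k⁻¹ * m), mul_mem (le_normalizer hw) (Sylow.smul_eq_iff_mem_normalizer.mp ?_), ?_⟩
  · rw [mul_smul, ← hkW, inv_smul_smul]
  · rw [map_mul, map_mul, map_inv, hwk, mul_inv_cancel_left]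

/-- A 2-element whose image is bad lies in a second Sylow 2-subgroup. -/
theorem exists_ne_of_bad (W : Sylow 2 K) {x : K} (hx : IsPGroup 2 (zpowers x))
    (hbad : ¬ Good (π x)) : ∃ V : Sylow 2 K, x ∈ (V : Subgroup K) ∧ V ≠ W := by
  obtain ⟨T, hxT, hTW⟩ : ∃ T : Sylow 2 Y, π x ∈ (T : Subgroup Y) ∧ T ≠ W.mapSurjective hπ := by
    simp only [Good] at hbad
    push Not at hbad
    obtain ⟨T₁, T₂, h1, h2, hne⟩ := hbad
    by_cases he : T₁ = W.mapSurjective hπ
    · exact ⟨T₂, h2, fun e => hne (he.trans e.symm)⟩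
    · exact ⟨T₁, h1, he⟩
  obtain ⟨U, rfl⟩ := Sylow.mapSurjective_surjective hπ 2 T
  set M := ((U.mapSurjective hπ : Sylow 2 Y) : Subgroup Y).comap π with hM
  obtain ⟨V, hV⟩ := (hx.comap_subtype (K := M)).exists_le_sylow
  have hUM : (U : Subgroup K) ≤ M := fun y hy => by
    rw [hM, mem_comap, Sylow.coe_mapSurjective]
    exact mem_map_of_mem π hy
  obtain ⟨k, hk⟩ := MulAction.exists_smul_eq M (U.subtype hUM) V
  refine ⟨(k : K) • U, ?_, fun e => hTW (Sylow.ext ?_)⟩
  · have h1 : (⟨x, hxT⟩ : M) ∈ (V : Subgroup M) := hV (mem_zpowers x)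
    rw [← hk] at h1
    exact H24.CycInt.mem_smul_iff.mpr (H24.CycInt.mem_smul_iff.mp h1 :)
  · refine (W.mapSurjective hπ).is_maximal' (U.mapSurjective hπ).isPGroup' fun y hy => ?_
    rw [Sylow.coe_mapSurjective] at hy
    obtain ⟨s, hs, rfl⟩ := hy
    rw [← e] at hs
    have h1 : π ((k : K)⁻¹ * s * k) ∈ ((U.mapSurjective hπ : Sylow 2 Y) : Subgroup Y) := by
      rw [Sylow.coe_mapSurjective]
      exact mem_map_of_mem π (H24.CycInt.mem_smul_iff.mp hs)
    have h2 := mul_mem (mul_mem (show π k ∈ _ from k.2) h1) (inv_mem (show π k ∈ _ from k.2))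
    simpa [map_mul, map_inv, mul_assoc] using h2

end Cfsg.Agent.H60.CycInt
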