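import Cfsg.Agent.H60.CycInt.Typed
import Cfsg.Agent.H74.CycInt.Reduce
import Cfsg.Agent.H30.OutSolvable
import Cfsg.Agent.Linear.Order
import Cfsg.Agent.Linear.Simple
import Cfsg.Agent.S0483
import Cfsg.Agent.S0494
import Cfsg.Agent.S0516

/-!
# The typed simple groups are on the list

A strongly embedded subgroup gives Bender's groups; four elements of square one give `2`-rank two,
hence `L₂(q)` with `q ≡ 3, 5 (mod 8)` or `U₃(4)`, the latter by its Sylow `2`-subgroup.
-/

set_option autoImplicit false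
set_option linter.style.haveILetI false
set_option linter.unusedSectionVars false

namespace Cfsg.Agent.H60.CycInt

open Subgroup Cfsg.Agent.H24.CycInt
open scoped commutatorElement
open Cfsg.Agent.H74.CycInt (FiveTypes)

local instance fact_two_list : Fact (Nat.Prime 2) := ⟨Nat.prime_two⟩

universe u

/-- The recognition of `U₃(4)` by its Sylow 2-subgroup (S0486). -/
def UThreeFourHyp : Prop :=
  ∀ (G : Type u) [Group G] [Finite G] [IsSimpleGroup G] (F : Type) [Field F] [Fintype F],
    Fintype.card F = 16 → ∀ (S : Sylow 2 G) (P : Sylow 2 (Cfsg.PSU 3 F 4)),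
      Nonempty ((S : Subgroup G) ≃* (P : Subgroup (Cfsg.PSU 3 F 4))) →
      Nonempty (G ≃* Cfsg.PSU 3 F 4)

theorem card_field_two_pow (F : Type) [Field F] [Fintype F] (h : Even (Fintype.card F)) :
    ∃ n : ℕ, Fintype.card F = 2 ^ n := by
  obtain ⟨p, hp⟩ := CharP.exists F
  obtain ⟨n, hpp, hc⟩ := FiniteField.card F p
  refine ⟨n, ?_⟩
  rw [hc] at h ⊢
  rw [(Nat.prime_dvd_prime_iff_eq Nat.prime_two hpp).mp
    (Nat.prime_two.dvd_of_dvd_pow (even_iff_two_dvd.mp h))]

variable {G : Type u} [Group G] [Finite G]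

/-- Four elements of square one in each Sylow 2-subgroup: `2`-rank at most two. -/
theorem prank_of_fourType (hF : FourType G) : Cfsg.PRankLE 2 2 G := by
  intro A _ hA
  have hP : IsPGroup 2 A := fun a => ⟨1, Subtype.ext (by simpa using hA _ a.2)⟩
  obtain ⟨S, hS⟩ := hP.exists_le_sylow
  calc Nat.card A ≤ Nat.card (ctrInv (S : Subgroup G)) := Subgroup.card_le_of_le fun a ha =>
        (hF S).2 a (hS ha) (by rw [← pow_two]; exact hA a ha)
    _ = 2 ^ 2 := by rw [(hF S).1]; norm_num

variable [IsSimpleGroup G]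

theorem list_of_se (hna : ¬ IsMulCommutative G)
    (hSE : ∃ H : Subgroup G, Cfsg.IsStronglyEmbedded H) : FiveTypes G := by
  rcases bender_of_se hna hSE with ⟨F, i1, i2, hchar, h4, e⟩ | hSz | ⟨F, i1, i2, q, hc, hev, h4, e⟩
  · refine Or.inl ?_
    obtain ⟨n, hn⟩ := card_field_two_pow F
      (by
        obtain ⟨n, -, hc⟩ := FiniteField.card F 2
        rw [hc]
        exact Nat.even_pow.mpr ⟨even_two, n.ne_zero⟩)
    refine ⟨n, F, i1, i2, ?_, hn, e⟩
    by_contra hlt
    have : 2 ^ n ≤ 2 ^ 1 := Nat.pow_le_pow_right two_pos (by omega)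
    omega
  · obtain ⟨F, i1, i2, m, hm, hc, e⟩ := hSz
    exact Or.inr (Or.inl ⟨m, F, i1, i2, hm, hc, e⟩)
  · refine Or.inr (Or.inr (Or.inl ?_))
    obtain ⟨k, hk⟩ := card_field_two_pow F (hc ▸ Nat.even_pow.mpr ⟨hev, two_ne_zero⟩)
    obtain ⟨n, -, hn⟩ := (Nat.dvd_prime_pow Nat.prime_two).mp
      (show q ∣ 2 ^ k by rw [← hk, hc]; exact dvd_pow_self q two_ne_zero)
    subst hn
    refine ⟨n, F, i1, i2, ?_, ?_, e⟩
    · by_contra hlt
      have : 2 ^ n ≤ 2 ^ 1 := Nat.pow_le_pow_right two_pos (by omega)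
      omega
    · rw [hc, ← pow_mul, show 4 ^ n = (2 ^ 2) ^ n from rfl, ← pow_mul, mul_comm]

/-- Dihedral Sylow 2-subgroups of order four: `L₂(q)`, `q ≡ 3, 5 (mod 8)`. -/
theorem list_of_dihedral (hna : ¬ IsMulCommutative G) (S : Sylow 2 G)
    (e : (S : Subgroup G) ≃* DihedralGroup 2) : FiveTypes G := by
  have h4 : Nat.card (S : Subgroup G) = 4 := by
    rw [Nat.card_congr e.toEquiv, DihedralGroup.nat_card]
  have hO : Cfsg.oddCore G = ⊥ := H30.OutSolvable.oddCore_eq_bot S fun hb => by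
    rw [hb, card_bot] at h4; omega
  haveI : Group.IsPerfect G := by
    refine ⟨(IsSimpleGroup.eq_bot_or_eq_top_of_normal (commutator G) inferInstance).resolve_left
      fun hb => hna ⟨⟨fun a b => ?_⟩⟩⟩
    have h1 : ⁅a, b⁆ ∈ commutator G := commutator_mem_commutator (mem_top a) (mem_top b)
    rw [hb, mem_bot, commutatorElement_eq_one_iff_mul_comm] at h1
    exact h1
  have h8 : ¬ 8 ∣ Nat.card G := fun h => by
    have h1 := S.pow_dvd_card_of_pow_dvd_card (n := 3) h
    rw [show Nat.card S = 4 from h4] at h1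
    omega
  let π : G ⧸ Cfsg.oddCore G ≃* G :=
    (QuotientGroup.quotientMulEquivOfEq hO).trans QuotientGroup.quotientBot
  rcases S0483.result S 2 le_rfl ⟨e⟩ with ⟨F, i1, i2, hodd, h3, ⟨f⟩⟩ | hA7
  · have hc := Linear.card_PSL_two_mul (F := F)
    have hg : Nat.gcd 2 (Fintype.card F - 1) = 2 := Nat.gcd_eq_left (by
      obtain ⟨k, hk⟩ := hodd
      exact ⟨k, by omega⟩)
    rw [hg, ← Nat.card_congr (π.symm.trans f).toEquiv] at hc
    rcases eq_or_ne (Fintype.card F) 5 with h5 | h5
    · haveI : Fintype (GaloisField 2 2) := Fintype.ofFinite _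
      refine Or.inl ⟨2, GaloisField 2 2, inferInstance, inferInstance, le_rfl, ?_, ?_⟩
      · rw [← Nat.card_eq_fintype_card, GaloisField.card 2 2 two_ne_zero]
      · rw [h5] at hc
        have h60 : Nat.card G = 60 := by omega
        have hc4 : Fintype.card (GaloisField 2 2) = 4 := by
          rw [← Nat.card_eq_fintype_card, GaloisField.card 2 2 two_ne_zero]; norm_num
        haveI : IsSimpleGroup (Matrix.ProjectiveSpecialLinearGroup (Fin 2) (GaloisField 2 2)) :=
          Linear.isSimpleGroup_PSL_fin le_rfl fun _ => by rw [Nat.card_eq_fintype_card, hc4]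
        have hc' := Linear.card_PSL_two_mul (F := GaloisField 2 2)
        rw [hc4, show Nat.gcd 2 (4 - 1) = 1 by norm_num] at hc'
        obtain ⟨a⟩ := S0494.result h60
        obtain ⟨b⟩ := S0494.result (G := Matrix.ProjectiveSpecialLinearGroup (Fin 2) (GaloisField 2 2))
          (by omega)
        exact ⟨a.trans b.symm⟩
    · refine Or.inr (Or.inr (Or.inr (Or.inl ⟨F, i1, i2, ?_, ?_, ⟨π.symm.trans f⟩⟩)))
      · by_contra hne
        refine h8 ?_
        obtain ⟨k, hk⟩ := hodd
        rw [hk] at hc hne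
        have he : (2 * k + 1) ^ 2 - 1 = 4 * (k * (k + 1)) := Nat.sub_eq_of_eq_add (by ring)
        rw [he] at hc
        have h4k : 4 ∣ k * (k + 1) := by
          rcases (show k % 4 = 0 ∨ k % 4 = 3 by omega) with h | h
          · exact dvd_mul_of_dvd_left (Nat.dvd_of_mod_eq_zero h) _
          · exact dvd_mul_of_dvd_right (by omega) _
        obtain ⟨j, hj⟩ := h4k
        exact ⟨(2 * k + 1) * j, by rw [hj] at hc; linarith⟩
      · obtain ⟨k, hk⟩ := hodd; omega
  · obtain ⟨f⟩ := hA7
    refine absurd ?_ h8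
    rw [Nat.card_congr (π.symm.trans f).toEquiv, nat_card_alternatingGroup, Nat.card_eq_fintype_card,
      Fintype.card_fin]
    exact ⟨315, by decide⟩

theorem list_of_fourType (hU : UThreeFourHyp.{u}) (hna : ¬ IsMulCommutative G) (hF : FourType G) :
    FiveTypes G := by
  classical
  haveI : Fintype (GaloisField 2 4) := Fintype.ofFinite _
  have h16 : Fintype.card (GaloisField 2 4) = 16 := by
    rw [← Nat.card_eq_fintype_card, GaloisField.card 2 4 four_ne_zero]; norm_num
  obtain ⟨S⟩ : Nonempty (Sylow 2 G) := inferInstance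
  obtain ⟨P⟩ : Nonempty (Sylow 2 (Cfsg.PSU 3 (GaloisField 2 4) 4)) := inferInstance
  have hcen : ∀ x s : (S : Subgroup G), orderOf x = 2 → Commute s x := fun x s hx =>
    Subtype.ext (((hF S).2 x x.2 (congrArg Subtype.val (sq_eq_one hx))).2.2 s s.2).eq
  rcases S0516.result hna (prank_of_fourType hF) S h16 P with
    ⟨n, hn, ⟨e⟩⟩ | ⟨n, hn, -, x, y, hx, hy, hxy⟩ | ⟨n, hn, -, x, y, z, hx, -, hdisj, hz, hxy⟩ | hP
  · obtain rfl : n = 2 := by
      by_contra hne
      have h1 := (hcen (e.symm (DihedralGroup.sr 0)) (e.symm (DihedralGroup.r 1))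
        (by rw [MulEquiv.orderOf_eq, DihedralGroup.orderOf_sr])).map e.toMonoidHom
      simp only [MulEquiv.coe_toMonoidHom, MulEquiv.apply_symm_apply] at h1
      have h2 : DihedralGroup.sr ((0 : ZMod n) - 1) = DihedralGroup.sr (0 + 1) := by
        rw [← DihedralGroup.r_mul_sr, ← DihedralGroup.sr_mul_r]; exact h1.eq
      have h3 : ((2 : ℕ) : ZMod n) = 0 := by
        rw [DihedralGroup.sr.injEq, zero_sub, zero_add, neg_eq_iff_add_eq_zero] at h2
        rw [Nat.cast_ofNat, ← one_add_one_eq_two]; exact h2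
      rw [ZMod.natCast_eq_zero_iff] at h3
      have := Nat.le_of_dvd two_pos h3
      omega
    exact list_of_dihedral hna S e
  · exfalso
    have h1 : x ^ 1 = x ^ (2 ^ (n - 1) - 1) := by
      rw [pow_one, ← hxy, ((hcen y x hy).symm).eq, mul_inv_cancel_right]
    rw [pow_eq_pow_iff_modEq, hx] at h1
    have h2 : 2 ^ n = 2 * 2 ^ (n - 1) := by rw [← pow_succ', Nat.sub_add_cancel (by omega)]
    have h3 : 4 ≤ 2 ^ (n - 1) :=
      le_trans (by norm_num) (Nat.pow_le_pow_right two_pos (show 2 ≤ n - 1 by omega))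
    rw [Nat.ModEq, Nat.mod_eq_of_lt (by omega), Nat.mod_eq_of_lt (by omega)] at h1
    omega
  · exfalso
    have h1 : y = x := by rw [← hxy, ((hcen z x hz).symm).eq, mul_inv_cancel_right]
    rw [h1, inf_idem, zpowers_eq_bot] at hdisj
    rw [hdisj, orderOf_one] at hx
    have : 1 < 2 ^ n := Nat.one_lt_pow (by omega) (by norm_num)
    omega
  · exact Or.inr (Or.inr (Or.inl ⟨2, GaloisField 2 4, inferInstance, inferInstance, le_rfl,
      by rw [h16]; norm_num, hU G (GaloisField 2 4) h16 S P hP⟩))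

theorem list_of_typed (hU : UThreeFourHyp.{u}) (hna : ¬ IsMulCommutative G) (h : Typed G) :
    FiveTypes G := by
  rcases h with hSE | ⟨-, hF | hJ⟩
  · exact list_of_se hna hSE
  · exact list_of_fourType hU hna hF
  · exact Or.inr (Or.inr (Or.inr (Or.inr hJ)))

end Cfsg.Agent.H60.CycInt
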