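import Cfsg.Agent.H60.CycInt.Radical
import Cfsg.Agent.H60.CycInt.Models
import Cfsg.Agent.Cores.GlaubermanZStar
import Cfsg.Agent.Bridge.Bender

/-!
# Simple groups in which distinct Sylow 2-subgroups meet in cyclic groups

The central involutions of a Sylow 2-subgroup, and the consequences of a strongly embedded subgroup.
-/

set_option autoImplicit false
set_option linter.style.haveILetI false
set_option linter.unusedSectionVars false

namespace Cfsg.Agent.H60.CycInt

open Subgroup Cfsg.Agent.H24.CycInt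
open scoped Pointwise

local instance fact_two_simple : Fact (Nat.Prime 2) := ⟨Nat.prime_two⟩

universe u

variable {G : Type u} [Group G]

/-- The elements of `S` of square one that are central in `S`. -/
def ctrInv (S : Subgroup G) : Subgroup G where
  carrier := {x | x ∈ S ∧ x * x = 1 ∧ ∀ s ∈ S, Commute s x}
  one_mem' := ⟨one_mem S, one_mul 1, fun s _ => Commute.one_right s⟩
  mul_mem' := by
    rintro a b ⟨ha, ha2, hac⟩ ⟨hb, hb2, hbc⟩
    refine ⟨mul_mem ha hb, ?_, fun s hs => (hac s hs).mul_right (hbc s hs)⟩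
    rw [(hac b hb).mul_mul_mul_comm, ha2, hb2, one_mul]
  inv_mem' := by
    rintro a ⟨ha, ha2, hac⟩
    rw [show a⁻¹ = a from inv_eq_of_mul_eq_one_right ha2]
    exact ⟨ha, ha2, hac⟩

theorem mem_ctrInv {S : Subgroup G} {x : G} :
    x ∈ ctrInv S ↔ x ∈ S ∧ x * x = 1 ∧ ∀ s ∈ S, Commute s x := Iff.rfl

theorem ctrInv_le (S : Subgroup G) : ctrInv S ≤ S := fun _ hx => hx.1

theorem ctrInv_invariant {S : Subgroup G} {n x : G} (hn : n ∈ normalizer (S : Set G))
    (hx : x ∈ ctrInv S) : n * x * n⁻¹ ∈ ctrInv S := by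
  refine ⟨(mem_normalizer_iff.mp hn x).mp hx.1, ?_, fun s hs => ?_⟩
  · rw [show n * x * n⁻¹ * (n * x * n⁻¹) = n * (x * x) * n⁻¹ by group, hx.2.1]; group
  · have hs' : n⁻¹ * s * n ∈ S := by
      simpa using (mem_normalizer_iff.mp (inv_mem hn) s).mp hs
    have := (hx.2.2 _ hs').map (MulAut.conj n).toMonoidHom
    simpa [mul_assoc] using this

variable [Finite G]

/-- Good involutions under an isomorphism of subgroups. -/
theorem ci_of_injective {H : Type*} [Group H] [Finite H] (h : CI G) (f : H →* G)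
    (hf : Function.Injective f) : CI H := by
  intro P Q hPQ
  have hnc := h.subgroup f.range
  set e : H ≃* f.range := MonoidHom.ofInjective hf
  have hne : P.mapSurjective (f := e.toMonoidHom) e.surjective ≠
      Q.mapSurjective (f := e.toMonoidHom) e.surjective := fun he => hPQ (Sylow.ext (by
    have h1 := congrArg (fun R : Sylow 2 f.range => (R : Subgroup f.range)) he
    exact map_injective e.injective h1))
  haveI : IsCyclic ↥(((P : Subgroup H) ⊓ (Q : Subgroup H)).map e.toMonoidHom) := by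
    rw [map_inf _ _ e.toMonoidHom e.injective]
    exact hnc _ _ hne
  exact isCyclic_of_surjective _
    (((P : Subgroup H) ⊓ (Q : Subgroup H)).equivMapOfInjective e.toMonoidHom e.injective).symm.surjective

section Simple

variable [IsSimpleGroup G]

/-- By the Z-star theorem no involution of `S` is fixed by all fusing elements. -/
theorem exists_moved_invol (hna : ¬ IsMulCommutative G) (h : CI G) (S : Sylow 2 G) {u : G}
    (hu : orderOf u = 2) (huS : u ∈ (S : Subgroup G)) :
    ∃ n ∈ normalizer ((S : Subgroup G) : Set G), n * u * n⁻¹ ≠ u := by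
  by_contra hcon
  push Not at hcon
  have hS := sylow_not_cyclic_of_perfectSimple hna S
  have hiso := Cores.glaubermanZStar S hu huS fun g hg => by
    obtain ⟨n, hn, e⟩ := exists_normalizer_conj h hS hu huS hg
    rw [← e, hcon n hn]
  have hO : Cfsg.oddCore G = ⊥ := by
    rcases (inferInstance : (Cfsg.oddCore G).Normal).eq_bot_or_eq_top with e | e
    · exact e
    · exfalso
      have h1 := Cores.odd_card_oddCore (G := G)
      rw [show Cfsg.oddCore G = ⊤ from e, card_top] at h1
      haveI := solvable_odd h1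
      exact hna ⟨⟨(IsSimpleGroup.comm_iff_isSolvable (G := G)).mpr inferInstance⟩⟩
  have hcen : u ∈ center G := mem_center_iff.mpr fun g => by
    have h1 := hiso g
    rw [hO, mem_bot, mul_inv_eq_one, mul_inv_eq_iff_eq_mul] at h1
    exact h1.symm
  rcases (inferInstance : (center G).Normal).eq_bot_or_eq_top with e | e
  · rw [e, mem_bot] at hcen
    rw [hcen, orderOf_one] at hu
    exact absurd hu (by norm_num)
  · exact hna ⟨⟨fun a b => mem_center_iff.mp (e ▸ mem_top b : b ∈ center G) a⟩⟩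

theorem four_le_ctrInv (hna : ¬ IsMulCommutative G) (h : CI G) (S : Sylow 2 G) :
    4 ≤ Nat.card (ctrInv (S : Subgroup G)) := by
  obtain ⟨z, hzS, hz, hzc⟩ := exists_central_invol S
    (sylow_ne_bot_of_not_cyclic (sylow_not_cyclic_of_perfectSimple hna S))
  have hzA : z ∈ ctrInv (S : Subgroup G) := ⟨hzS, sq_eq_one hz, hzc⟩
  obtain ⟨n, hn, hne⟩ := exists_moved_invol hna h S hz hzS
  have hyA : n * z * n⁻¹ ∈ ctrInv (S : Subgroup G) := ctrInv_invariant hn hzA
  have hy : orderOf (n * z * n⁻¹) = 2 := by rw [orderOf_inv_conj, hz]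
  obtain ⟨k, hk⟩ := IsPGroup.iff_card.mp (S.isPGroup'.to_le (ctrInv_le (S : Subgroup G)))
  have h3 : 3 ≤ Nat.card (ctrInv (S : Subgroup G)) := by
    classical
    have hle : Nat.card (Fin 3) ≤ Nat.card (ctrInv (S : Subgroup G)) := by
      refine Nat.card_le_card_of_injective
        ![(1 : ctrInv (S : Subgroup G)), ⟨z, hzA⟩, ⟨n * z * n⁻¹, hyA⟩] ?_
      have h1 : z ≠ 1 := fun e => by rw [e, orderOf_one] at hz; exact absurd hz (by norm_num)
      have h2 : n * z * n⁻¹ ≠ 1 := fun e => by rw [e, orderOf_one] at hy; exact absurd hy (by norm_num)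
      intro i j e
      fin_cases i <;> fin_cases j <;> simp [Subtype.ext_iff] at e <;>
        first
          | rfl
          | exact absurd e h1
          | exact absurd e.symm h1
          | exact absurd e h2
          | exact absurd e.symm h2
          | exact absurd e hne
          | exact absurd e.symm hne
    simpa using hle
  rw [hk] at h3 ⊢
  rcases k with _ | _ | k
  · simp at h3
  · simp at h3
  · calc 4 = 2 ^ 2 := rfl
      _ ≤ 2 ^ (k + 2) := Nat.pow_le_pow_right two_pos (by omega)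

end Simple

section SE

variable [IsSimpleGroup G]

theorem bender_of_se (hna : ¬ IsMulCommutative G) (hSE : ∃ H : Subgroup G, Cfsg.IsStronglyEmbedded H) :
    H76.PostBender.IsBenderGroup G := by
  obtain ⟨H, hH⟩ := hSE
  refine Bridge.bender G ?_ H hH
  by_contra hc
  push Not at hc
  exact hna ⟨⟨hc⟩⟩

/-- With a strongly embedded subgroup every involution lies in one Sylow 2-subgroup. -/
theorem good_of_se (hna : ¬ IsMulCommutative G) (hSE : ∃ H : Subgroup G, Cfsg.IsStronglyEmbedded H)
    {u : G} (hu : orderOf u = 2) : Good u := by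
  have hB := bender_of_se hna hSE
  obtain ⟨H, hH⟩ := hSE
  obtain ⟨P, rfl⟩ := H76.PostBender.eq_normalizer hB hH
  intro S T huS huT
  obtain ⟨g, rfl⟩ := MulAction.exists_smul_eq G P S
  obtain ⟨k, rfl⟩ := MulAction.exists_smul_eq G P T
  have ha : orderOf (g⁻¹ * u * g) = 2 := by
    have := orderOf_inv_conj g⁻¹ u
    rw [inv_inv] at this
    rw [this, hu]
  have hk : k⁻¹ * g ∈ normalizer ((P : Subgroup G) : Set G) := by
    refine H39.se_mem_of_conj hH ha (le_normalizer (H24.CycInt.mem_smul_iff.mp huS)) ?_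
    rw [show k⁻¹ * g * (g⁻¹ * u * g) * (k⁻¹ * g)⁻¹ = k⁻¹ * u * k by group]
    exact le_normalizer (H24.CycInt.mem_smul_iff.mp huT)
  have := Sylow.smul_eq_iff_mem_normalizer.mpr hk
  rw [mul_smul, inv_smul_eq_iff] at this
  exact this

theorem conj_of_se (hna : ¬ IsMulCommutative G) (hSE : ∃ H : Subgroup G, Cfsg.IsStronglyEmbedded H)
    (h : CI G) (S : Sylow 2 G) {a b : G} (ha : a ∈ (S : Subgroup G)) (hb : b ∈ (S : Subgroup G))
    (ha2 : orderOf a = 2) (hb2 : orderOf b = 2) :
    ∃ n ∈ normalizer ((S : Subgroup G) : Set G), n * a * n⁻¹ = b := by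
  obtain ⟨H, hH⟩ := hSE
  obtain ⟨g, hg⟩ := isConj_iff.mp (H39.se_involutions_conj hH ha2 hb2)
  obtain ⟨n, hn, e⟩ := exists_normalizer_conj h (sylow_not_cyclic_of_perfectSimple hna S) ha2 ha
    (hg.symm ▸ hb : g * a * g⁻¹ ∈ (S : Subgroup G))
  exact ⟨n, hn, e.trans hg⟩

theorem mem_ctrInv_of_se (hna : ¬ IsMulCommutative G)
    (hSE : ∃ H : Subgroup G, Cfsg.IsStronglyEmbedded H) (h : CI G) (S : Sylow 2 G) {x : G}
    (hx : x ∈ (S : Subgroup G)) (hx2 : x * x = 1) : x ∈ ctrInv (S : Subgroup G) := by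
  rcases eq_or_ne x 1 with rfl | hx1
  · exact one_mem _
  obtain ⟨z, hzS, hz, hzc⟩ := exists_central_invol S
    (sylow_ne_bot_of_not_cyclic (sylow_not_cyclic_of_perfectSimple hna S))
  obtain ⟨n, hn, e⟩ := conj_of_se hna hSE h S hzS hx hz (orderOf_two hx2 hx1)
  exact e ▸ ctrInv_invariant hn ⟨hzS, sq_eq_one hz, hzc⟩

theorem inf_eq_bot_of_se (hna : ¬ IsMulCommutative G)
    (hSE : ∃ H : Subgroup G, Cfsg.IsStronglyEmbedded H) {S T : Sylow 2 G} (hne : S ≠ T) :
    (S : Subgroup G) ⊓ (T : Subgroup G) = ⊥ := by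
  by_contra hb
  obtain ⟨x, hx, hx2⟩ := exists_invol
    (S.isPGroup'.to_le (inf_le_left : (S : Subgroup G) ⊓ (T : Subgroup G) ≤ _)) hb
  exact hne (good_of_se hna hSE hx2 S T hx.1 hx.2)

theorem sylTrans_of_se (hna : ¬ IsMulCommutative G)
    (hSE : ∃ H : Subgroup G, Cfsg.IsStronglyEmbedded H) : H76.PostBender.SylTrans 2 G :=
  H76.PostBender.sylTrans_of_bender (bender_of_se hna hSE)

end SE

end Cfsg.Agent.H60.CycInt
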