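import Cfsg.Agent.H60.CycInt.Models
import Cfsg.Agent.H60.CycInt.Simple
import Cfsg.Agent.Linear.Order
import Cfsg.Agent.S0494
import Cfsg.Agent.S2119

/-!
# Bender's groups with Sylow 2-subgroups of order four

The only one is `A₅`, whose automorphism group has order 120.
-/

set_option autoImplicit false
set_option linter.style.haveILetI false
set_option linter.unusedSectionVars false

namespace Cfsg.Agent.H60.CycInt

open Subgroup

local instance fact_two_sixty : Fact (Nat.Prime 2) := ⟨Nat.prime_two⟩

universe u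

theorem card_sixty_of_bender {X : Type u} [Group X] [Finite X]
    (hB : H76.PostBender.IsBenderGroup X) (P : Sylow 2 X) (hP : Nat.card (P : Subgroup X) = 4)
    (hq : sqCount (P : Subgroup X) = 4) : Nat.card X = 60 := by
  rcases hB with ⟨F, _, _, hc, h4, ⟨e⟩⟩ | ⟨F, _, _, m, hm, hF, ⟨e⟩⟩ |
    ⟨F, _, _, q, hF, hev, h4, ⟨e⟩⟩
  · haveI := hc
    have h8 : ¬ 8 ∣ Nat.card X := fun h => by
      have h1 := P.pow_dvd_card_of_pow_dvd_card (n := 3) h
      rw [show Nat.card P = 4 from hP] at h1
      omega
    obtain ⟨k, -, hk⟩ := FiniteField.card F 2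
    have hcard := Linear.card_PSL_two_mul (F := F)
    rw [← Nat.card_congr e.toEquiv, hk] at hcard
    have hg : Nat.gcd 2 (2 ^ (k : ℕ) - 1) = 1 := by
      refine Nat.coprime_two_left.mpr (Nat.Even.sub_odd ?_ (Nat.even_pow.mpr ⟨even_two, k.ne_zero⟩) odd_one)
      exact Nat.one_le_two_pow
    rw [hg, one_mul] at hcard
    have hk2 : (k : ℕ) = 2 := by
      by_contra hne
      have h3 : 3 ≤ (k : ℕ) := by
        by_contra hlt
        have h2 : (k : ℕ) ≠ 0 := k.ne_zero
        rw [hk, show (k : ℕ) = 1 by omega] at h4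
        omega
      exact h8 (hcard ▸ Dvd.dvd.mul_right ((show (8 : ℕ) = 2 ^ 3 from rfl) ▸ pow_dvd_pow 2 h3) _)
    rw [hk2] at hcard
    norm_num at hcard
    exact hcard
  · exfalso
    haveI : Suzuki.SzField F m := ⟨hF, hm⟩
    obtain ⟨W, -, hW⟩ := small_sz (F := F) (m := m) hm
    set π := e.symm.toMonoidHom.comp (Suzuki.lieEquiv (F := F) m).toMonoidHom
    have hπ : Function.Surjective π :=
      e.symm.surjective.comp (Suzuki.lieEquiv (F := F) m).surjective
    have hker : Odd (Nat.card π.ker) := by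
      rw [show π.ker = ⊥ from (MonoidHom.ker_eq_bot_iff π).mpr
        (e.symm.injective.comp (Suzuki.lieEquiv (F := F) m).injective), card_bot]
      exact odd_one
    obtain ⟨V, rfl⟩ := Sylow.mapSurjective_surjective hπ 2 P
    obtain ⟨g, rfl⟩ := MulAction.exists_smul_eq (Cfsg.Sz F m) W V
    rw [sqCount_map hπ hker, sqCount_smul] at hq
    omega
  · exfalso
    haveI := H76.PostBender.charP_two_of_card hF hev
    obtain ⟨W, hW, -⟩ := large_suThree hF h4
    set π := e.symm.toMonoidHom.comp (QuotientGroup.mk' (center (Cfsg.SU 3 F q)))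
    have hπ : Function.Surjective π := e.symm.surjective.comp (QuotientGroup.mk'_surjective _)
    have hkereq : π.ker = center (Cfsg.SU 3 F q) := by
      ext a
      rw [MonoidHom.mem_ker, MonoidHom.comp_apply, MulEquiv.coe_toMonoidHom,
        MulEquiv.map_eq_one_iff, QuotientGroup.mk'_apply, QuotientGroup.eq_one_iff]
    have hker : Odd (Nat.card π.ker) := by
      rw [hkereq, Unitary.card_center_SU hF (by norm_num)]
      exact (Nat.odd_iff.mpr rfl : Odd 3).of_dvd_nat (Nat.gcd_dvd_left 3 (q + 1))
    obtain ⟨V, rfl⟩ := Sylow.mapSurjective_surjective hπ 2 P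
    obtain ⟨g, rfl⟩ := MulAction.exists_smul_eq (Cfsg.SU 3 F q) W V
    rw [card_map_sylow hπ hker, card_smul, hW] at hP
    have : 4 ^ 3 ≤ q ^ 3 := Nat.pow_le_pow_left h4 3
    omega

/-- A group with a normal self-centralising subgroup of odd index isomorphic to `A₅` equals it. -/
theorem eq_top_of_altFive {Y : Type u} [Group Y] [Finite Y] (X : Subgroup Y) [X.Normal]
    (hC : centralizer (X : Set Y) = ⊥) (hodd : Odd X.index)
    (e : ↥X ≃* alternatingGroup (Fin 5)) : X = ⊤ := by
  let ψ : Y →* MulAut ↥X := MulAut.conjNormal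
  have hψ : Function.Injective ψ := (injective_iff_map_eq_one ψ).mpr fun y hy => by
    have h1 : y ∈ centralizer (X : Set Y) := mem_centralizer_iff.mpr fun x hx => by
      have h2 := congrArg Subtype.val (DFunLike.congr_fun hy ⟨x, hx⟩)
      rw [MulAut.conjNormal_apply] at h2
      change y * x * y⁻¹ = x at h2
      rw [mul_inv_eq_iff_eq_mul] at h2
      exact h2.symm
    rwa [hC, mem_bot] at h1
  haveI : Finite (MulAut ↥X) := Finite.of_injective (fun f => (f : ↥X → ↥X)) DFunLike.coe_injective
  have h1 := Subgroup.card_dvd_of_injective ψ hψ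
  have h120 : Nat.card (MulAut ↥X) = 120 := by
    rw [Nat.card_congr (MulAut.congr e).toEquiv,
      ← Nat.card_congr (Equiv.ofBijective _ (S2119.result 5 (by norm_num) (by norm_num))),
      Nat.card_perm, Nat.card_fin]
    rfl
  have h60 : Nat.card ↥X = 60 := by
    rw [Nat.card_congr e.toEquiv, nat_card_alternatingGroup, Nat.card_eq_fintype_card, Fintype.card_fin]
    norm_num [Nat.factorial]
  rw [h120, ← X.card_mul_index, h60, show (120 : ℕ) = 60 * 2 from rfl,
    Nat.mul_dvd_mul_iff_left (by norm_num)] at h1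
  rcases (Nat.dvd_prime Nat.prime_two).mp h1 with h | h
  · exact Subgroup.index_eq_one.mp h
  · rw [h] at hodd; exact absurd hodd (by decide)

end Cfsg.Agent.H60.CycInt
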