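import Cfsg.Agent.H60.CycInt.Lift
import Cfsg.Agent.H60.CycInt.Simple
import Cfsg.Agent.H60.CycInt.Models

/-!
# The socle of the centraliser of a bad central involution modulo its radical

It has a strongly embedded subgroup, so the involutions of its Sylow 2-subgroup are conjugate in the
normaliser, and there are at least three of them.
-/

set_option autoImplicit false
set_option linter.style.haveILetI false
set_option linter.unusedSectionVars false

namespace Cfsg.Agent.H60.CycInt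

open Subgroup Cfsg.Agent.H24.CycInt
open scoped Pointwise

local instance fact_two_socle : Fact (Nat.Prime 2) := ⟨Nat.prime_two⟩

universe u

/-- A central element of a Sylow 2-subgroup's ambient group lies in every Sylow 2-subgroup. -/
theorem mem_sylow_of_central {K : Type u} [Group K] [Finite K] {W : Sylow 2 K} {z : K}
    (hzW : z ∈ (W : Subgroup K)) (hzc : ∀ k : K, Commute k z) (V : Sylow 2 K) :
    z ∈ (V : Subgroup K) := by
  obtain ⟨g, rfl⟩ := MulAction.exists_smul_eq K W V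
  refine H24.CycInt.mem_smul_iff.mpr ?_
  rw [(hzc g⁻¹).eq, inv_mul_cancel_right]
  exact hzW

/-- Not all involutions of the socle of the quotient lie in two Sylow 2-subgroups. -/
theorem false_of_all_bad {K : Type u} [Group K] [Finite K] (h : CI K) {W : Sylow 2 K} {z x : K}
    (hzW : z ∈ (W : Subgroup K)) (hz : orderOf z = 2) (hzc : ∀ k : K, Commute k z)
    (hxW : x ∈ (W : Subgroup K)) (hx : orderOf x = 2) (hxz : x ≠ z)
    (R : Subgroup K) [R.Normal] (hxR : x ∉ R)
    (X : Subgroup (K ⧸ R)) [X.Normal] (hodd : Odd X.index)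
    (hbad : ∀ d : X, orderOf d = 2 → ¬ Good d) : False := by
  have hπ : Function.Surjective (QuotientGroup.mk' R) := QuotientGroup.mk'_surjective R
  have hp : IsPGroup 2 (zpowers x) := isPGroup_zpowers_invol hx
  have hd : QuotientGroup.mk' R x ∈ X :=
    le_of_odd_index hodd (hp.map (QuotientGroup.mk' R)) (mem_map_of_mem _ (mem_zpowers x))
  have hd2 : orderOf (⟨_, hd⟩ : X) = 2 := by
    rw [Subgroup.orderOf_mk]
    refine orderOf_two (by rw [← map_mul, sq_eq_one hx, map_one]) ?_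
    rw [QuotientGroup.mk'_apply, Ne, QuotientGroup.eq_one_iff]
    exact hxR
  obtain ⟨V, hxV, hVW⟩ := exists_ne_of_bad hπ W hp (bad_of_bad_subgroup (hbad _ hd2))
  exact not_cyclic_of_two (P := (W : Subgroup K) ⊓ (V : Subgroup K)) ⟨hxW, hxV⟩
    ⟨hzW, mem_sylow_of_central hzW hzc V⟩ hx hz hxz (h W V (Ne.symm hVW))

/-- A normal simple subgroup of odd index with a strongly embedded subgroup. -/
theorem socle_data {Y : Type u} [Group Y] [Finite Y] (hci : CI Y) (X : Subgroup Y) [X.Normal]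
    [IsSimpleGroup ↥X] (hna : ¬ IsMulCommutative ↥X) (hodd : Odd X.index)
    (hSE : ∃ H : Subgroup ↥X, Cfsg.IsStronglyEmbedded H) (P : Sylow 2 Y) :
    (∀ a ∈ (P : Subgroup Y), ∀ b ∈ (P : Subgroup Y), orderOf a = 2 → orderOf b = 2 →
      ∃ n ∈ normalizer ((P : Subgroup Y) : Set Y), n * a * n⁻¹ = b) ∧
    4 ≤ sqCount (P : Subgroup Y) ∧
    (sqCount (P : Subgroup Y) = 4 → Nat.card (P : Subgroup Y) = 4 ∨
      (Nat.card (P : Subgroup Y) = 64 ∧ ∀ x ∈ (P : Subgroup Y), x ^ 4 = 1)) := by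
  have hPX : (P : Subgroup Y) ≤ X := le_of_odd_index hodd P.isPGroup'
  have hciX : CI ↥X := H24.CycInt.CI.subgroup hci X
  set Q := P.subtype hPX with hQ
  have hmem : ∀ x : ↥X, x ∈ (Q : Subgroup ↥X) ↔ (x : Y) ∈ (P : Subgroup Y) := fun x => Iff.rfl
  have hcnt : sqCount (Q : Subgroup ↥X) = sqCount (P : Subgroup Y) :=
    Nat.card_congr
      { toFun := fun x => ⟨x.1.1, (hmem _).mp x.2.1, congrArg Subtype.val x.2.2⟩
        invFun := fun x => ⟨⟨x.1, hPX x.2.1⟩, x.2.1, Subtype.ext x.2.2⟩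
        left_inv := fun x => rfl
        right_inv := fun x => rfl }
  have hcard : Nat.card (Q : Subgroup ↥X) = Nat.card (P : Subgroup Y) :=
    Nat.card_congr (Subgroup.subgroupOfEquivOfLe hPX).toEquiv
  refine ⟨fun a ha b hb ha2 hb2 => ?_, ?_, fun h4 => ?_⟩
  · obtain ⟨n, hn, e⟩ := conj_of_se hna hSE hciX Q
      (show (⟨a, hPX ha⟩ : X) ∈ (Q : Subgroup ↥X) from ha)
      (show (⟨b, hPX hb⟩ : X) ∈ (Q : Subgroup ↥X) from hb)
      (by rw [Subgroup.orderOf_mk]; exact ha2) (by rw [Subgroup.orderOf_mk]; exact hb2)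
    refine ⟨n, mem_normalizer_iff.mpr fun y => ⟨fun hy => ?_, fun hy => ?_⟩, congrArg Subtype.val e⟩
    · exact (mem_normalizer_iff.mp hn ⟨y, hPX hy⟩).mp hy
    · have hyX : y ∈ X := by
        have := ‹X.Normal›.conj_mem _ (hPX hy) (n : Y)⁻¹
        simpa [mul_assoc] using this
      exact (mem_normalizer_iff.mp hn ⟨y, hyX⟩).mpr hy
  · rw [← hcnt]
    refine le_trans (four_le_ctrInv hna hciX Q) ?_
    exact Nat.card_le_card_of_injective
      (fun x : ctrInv (Q : Subgroup ↥X) =>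
        (⟨x.1, x.2.1, x.2.2.1⟩ : {x : ↥X // x ∈ (Q : Subgroup ↥X) ∧ x * x = 1}))
      fun a b e => Subtype.ext (congrArg Subtype.val e :)
  · rw [← hcnt] at h4
    rcases bender_sized (bender_of_se hna hSE) with hs | hl
    · exact Or.inl (hcard ▸ (hs Q).2 h4)
    · obtain ⟨h64, hexp⟩ := (hl.1 Q).2 h4
      exact Or.inr ⟨hcard ▸ h64, fun x hx => congrArg Subtype.val (hexp ⟨x, hPX hx⟩ hx)⟩

end Cfsg.Agent.H60.CycInt
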