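import Cfsg.Agent.H60.CycInt.Typed
import Cfsg.Agent.H60.CycInt.List
import Cfsg.Agent.H60.CycInt.Socle
import Cfsg.Agent.H60.CycInt.Eight
import Cfsg.Agent.H60.CycInt.Janko
import Cfsg.Agent.H60.CycInt.Sixty

/-!
# A bad central involution with nonsolvable centraliser: the first Janko group
-/

set_option autoImplicit false
set_option linter.style.haveILetI false
set_option linter.unusedSectionVars false

namespace Cfsg.Agent.H60.CycInt

open Subgroup Cfsg.Agent.H24.CycInt
open scoped Pointwise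

local instance fact_two_nonsolvable : Fact (Nat.Prime 2) := ⟨Nat.prime_two⟩

universe u

/-- A cyclic subgroup of exponent four has order dividing four. -/
theorem card_dvd_four {H : Type*} [Group H] [Finite H] (hc : IsCyclic H)
    (h4 : ∀ x : H, x ^ 4 = 1) : Nat.card H ∣ 4 := by
  obtain ⟨g, hg⟩ := hc.exists_generator
  rw [← orderOf_eq_card_of_forall_mem_zpowers hg]
  exact orderOf_dvd_of_pow_eq_one (h4 g)

variable {G : Type u} [Group G] [Finite G] [IsSimpleGroup G]

theorem nonsolvable_case (hU : UThreeFourHyp.{u}) (hna : ¬ IsMulCommutative G) (h : CI G)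
    (IH : ∀ (L : Type u) [Group L] [Finite L] [IsSimpleGroup L], Nat.card L < Nat.card G →
      ¬ IsMulCommutative L → CI L → Typed L)
    (S : Sylow 2 G) {z : G} (hzA : z ∈ ctrInv (S : Subgroup G)) (hz : orderOf z = 2)
    (hbad : ¬ Good z) (hns : ¬ Group.IsSolvable ↥(centralizer ({z} : Set G))) :
    (∀ u : G, orderOf u = 2 → ¬ Good u) ∧ Cfsg.IsJ1 G := by
  classical
  obtain ⟨C, hC⟩ : ∃ C, C = centralizer ({z} : Set G) := ⟨_, rfl⟩
  rw [← hC] at hns
  have hmemC : ∀ c : G, c ∈ C ↔ Commute c z := fun c => hC ▸ commute_iff_mem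
  have hz1 : z ≠ 1 := fun e => by rw [e, orderOf_one] at hz; omega
  have hle : (S : Subgroup G) ≤ C := fun s hs => (hmemC s).mpr (hzA.2.2 s hs)
  have hciC : CI ↥C := H24.CycInt.CI.subgroup h C
  set W : Sylow 2 ↥C := S.subtype hle with hWdef
  set zC : ↥C := ⟨z, hle hzA.1⟩ with hzCdef
  have hzc : ∀ c : ↥C, Commute c zC := fun c => Subtype.ext ((hmemC _).mp c.2).eq
  have hzC2 : orderOf zC = 2 := by rw [hzCdef, Subgroup.orderOf_mk]; exact hz
  obtain ⟨R, hR⟩ : ∃ R, R = Cfsg.solvableRadical ↥C := ⟨_, rfl⟩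
  haveI hRn : R.Normal := hR ▸ rad_normal
  have hRs : Group.IsSolvable ↥R := hR ▸ rad_solvable
  have hzR : zC ∈ R := by
    rw [hR]
    exact le_rad (N := zpowers zC) ⟨fun x hx g => by
      obtain ⟨i, rfl⟩ := mem_zpowers_iff.mp hx
      rw [((hzc g).zpow_right i).eq, mul_inv_cancel_right]
      exact zpow_mem (mem_zpowers _) i⟩ (Group.isSolvable_of_comm mul_comm') (mem_zpowers _)
  have hcyc : IsCyclic ↥((W : Subgroup ↥C) ⊓ R) := hR ▸ isCyclic_inf_rad hciC hns W
  -- the quotient and its socle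
  have hrf : RadFree (↥C ⧸ R) :=
    radFree_quotient hRs fun N hN hNs => hR ▸ le_rad hN hNs
  obtain ⟨X, hXn, hXs, hXna, hXC⟩ := exists_socle (H24.CycInt.CI.quotient hciC R)
    (not_solvable_quotient hRs hns) hrf
  haveI := hXn
  haveI := hXs
  have hciX : CI ↥X := H24.CycInt.CI.subgroup (H24.CycInt.CI.quotient hciC R) X
  have hCtop : C ≠ ⊤ := by
    intro e
    have hzc' : z ∈ center G := mem_center_iff.mpr fun g =>
      ((hmemC g).mp (e ▸ mem_top g)).eq
    rcases (inferInstance : (center G).Normal).eq_bot_or_eq_top with h1 | h1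
    · rw [h1, mem_bot] at hzc'; exact hz1 hzc'
    · exact hna ⟨⟨fun a b => mem_center_iff.mp (h1 ▸ mem_top b) a⟩⟩
  have hlt : Nat.card ↥X < Nat.card G :=
    lt_of_le_of_lt ((Subgroup.card_le_card_group X).trans (Nat.card_le_card_of_surjective _
      (QuotientGroup.mk'_surjective R))) (lt_of_le_of_ne (Subgroup.card_le_card_group C)
        fun e => hCtop (Subgroup.eq_top_of_card_eq C e))
  have hT : Typed ↥X := IH ↥X hlt hXna hciX
  have hodd : Odd X.index :=
    odd_index_socle (H24.CycInt.CI.quotient hciC R) X hXna hXC (list_of_typed hU hXna hT)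
  set π : ↥C →* ↥C ⧸ R := QuotientGroup.mk' R with hπdef
  have hπ : Function.Surjective π := QuotientGroup.mk'_surjective R
  -- a second involution of `ctrInv S`
  have hA4 := four_le_ctrInv hna h S
  obtain ⟨x, hx, hx1, hxz⟩ : ∃ x ∈ ctrInv (S : Subgroup G), x ≠ 1 ∧ x ≠ z := by
    by_contra hno
    push Not at hno
    have hsub : (ctrInv (S : Subgroup G) : Set G) ⊆ {1, z} := fun y hy => by
      by_cases h1 : y = 1
      · exact Or.inl h1
      · exact Or.inr (hno y hy h1)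
    have h3 := (Set.ncard_le_ncard hsub).trans (Set.ncard_pair (Ne.symm hz1)).le
    rw [← Nat.card_coe_set_eq] at h3
    change Nat.card ↥(ctrInv (S : Subgroup G)) ≤ 2 at h3
    omega
  have hker0 : ∀ y : ↥C, y ∈ (W : Subgroup ↥C) → y * y = 1 → y ∈ R → y = 1 ∨ y = zC := by
    intro y hy hy2 hyR
    by_contra hh
    push Not at hh
    exact not_cyclic_of_two (P := (W : Subgroup ↥C) ⊓ R) ⟨hy, hyR⟩ ⟨hzA.1, hzR⟩
      (orderOf_two hy2 hh.1) hzC2 hh.2 hcyc
  have hxR : (⟨x, hle hx.1⟩ : ↥C) ∉ R := fun hh =>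
    (hker0 ⟨x, hle hx.1⟩ hx.1 (Subtype.ext hx.2.1) hh).elim
      (fun e => hx1 (congrArg Subtype.val e)) (fun e => hxz (congrArg Subtype.val e))
  have hSE : ∃ H : Subgroup ↥X, Cfsg.IsStronglyEmbedded H := by
    rcases hT with hT | ⟨hT, -⟩
    · exact hT
    · exact (false_of_all_bad hciC (W := W) (z := zC) (x := ⟨x, hle hx.1⟩) hzA.1 hzC2 hzc hx.1
        (by rw [Subgroup.orderOf_mk]; exact orderOf_two hx.2.1 hx1)
        (fun e => hxz (congrArg Subtype.val e)) R hxR X hodd hT).elim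
  set P : Sylow 2 (↥C ⧸ R) := W.mapSurjective hπ with hPdef
  obtain ⟨htr, hq, hsize⟩ := socle_data (H24.CycInt.CI.quotient hciC R) X hXna hodd hSE P
  let f : G → ↥C ⧸ R := fun y => if hy : y ∈ (S : Subgroup G) then π ⟨y, hle hy⟩ else 1
  have hf : ∀ y (hy : y ∈ (S : Subgroup G)), f y = π ⟨y, hle hy⟩ := fun y hy => dif_pos hy
  have hPmem : ∀ d, d ∈ (P : Subgroup (↥C ⧸ R)) ↔ ∃ y ∈ (S : Subgroup G), f y = d := by
    intro d
    rw [hPdef, Sylow.coe_mapSurjective]
    constructor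
    · rintro ⟨y, hy, rfl⟩; exact ⟨(y : G), hy, hf _ hy⟩
    · rintro ⟨y, hy, rfl⟩; exact ⟨⟨y, hle hy⟩, hy, (hf y hy).symm⟩
  obtain ⟨hsq, h8, hP4, htrans⟩ := eight_of_quotient S hzA hz
    (exists_moved_invol hna h S hz hzA.1) f
    (fun a ha b hb => by rw [hf a ha, hf b hb, hf _ (mul_mem ha hb), ← map_mul]; rfl)
    (P : Subgroup (↥C ⧸ R)) hPmem
    (by rw [hf z hzA.1]; exact (QuotientGroup.eq_one_iff _).mpr hzR)
    (fun a ha ha2 e => by
      rw [hf a ha] at e
      exact (hker0 ⟨a, hle ha⟩ ha (Subtype.ext ha2) ((QuotientGroup.eq_one_iff _).mp e)).imp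
        (fun e' => congrArg Subtype.val e') (fun e' => congrArg Subtype.val e'))
    (fun hexp => by
      let φ : ↥(W : Subgroup ↥C) →* ↥C ⧸ R := π.comp (W : Subgroup ↥C).subtype
      have hkinj : Function.Injective (fun y : φ.ker =>
          (⟨((y : ↥(W : Subgroup ↥C)) : ↥C), (y : ↥(W : Subgroup ↥C)).2,
            (QuotientGroup.eq_one_iff _).mp y.2⟩ : ↥((W : Subgroup ↥C) ⊓ R))) := fun a b e =>
        Subtype.ext (Subtype.ext (congrArg Subtype.val e :))
      haveI := hcyc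
      have hk : IsCyclic φ.ker := isCyclic_of_injective
        (MonoidHom.mk' (fun y : φ.ker => (⟨((y : ↥(W : Subgroup ↥C)) : ↥C),
          (y : ↥(W : Subgroup ↥C)).2, (QuotientGroup.eq_one_iff _).mp y.2⟩ :
            ↥((W : Subgroup ↥C) ⊓ R))) fun a b => rfl) hkinj
      have hk4 := card_dvd_four hk fun y => Subtype.ext (Subtype.ext (Subtype.ext
        (hexp _ (y : ↥(W : Subgroup ↥C)).2)))
      rw [← Nat.card_congr (Subgroup.subgroupOfEquivOfLe hle).toEquiv]
      show Nat.card ↥(W : Subgroup ↥C) ∣ _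
      rw [← φ.ker.card_mul_index, Subgroup.index_ker, MonoidHom.range_comp, range_subtype, hPdef,
        Sylow.coe_mapSurjective]
      exact mul_dvd_mul_right hk4 _)
    (fun a ha d hd ha2 hd2 => by
      rw [hf a ha] at ha2
      obtain ⟨n, hn, hnd⟩ := htr (π ⟨a, hle ha⟩)
        ((hPmem _).mpr ⟨a, ha, hf a ha⟩) d hd ha2 hd2
      obtain ⟨m, hm, rfl⟩ := exists_lift_normalizer hπ W hn
      have hmS : (m : G) ∈ normalizer ((S : Subgroup G) : Set G) :=
        mem_normalizer_iff.mpr fun y => ⟨fun hy => (mem_normalizer_iff.mp hm ⟨y, hle hy⟩).mp hy,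
          fun hy => by
            have hyC : y ∈ C := by
              simpa [mul_assoc] using mul_mem (mul_mem (inv_mem m.2) (hle hy)) m.2
            exact (mem_normalizer_iff.mp hm ⟨y, hyC⟩).mpr hy⟩
      refine ⟨m, hmS, by rw [((hmemC _).mp m.2).eq, mul_inv_cancel_right], ?_⟩
      rw [hf _ ((mem_normalizer_iff.mp hmS a).mp ha), ← hnd, ← map_inv, ← map_mul, ← map_mul]
      rfl)
    hq hsize hA4
  refine ⟨all_bad (S := S) (fun y hy hy2 => ?_) hbad fun a ha ha2 => ?_, ?_⟩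
  · exact ⟨hy, hy2, fun s hs => by
      show s * y = y * s
      rw [← inv_eq_of_mul_eq_one_right (hsq _ (mul_mem hs hy)), mul_inv_rev,
        inv_eq_of_mul_eq_one_right (hsq s hs), inv_eq_of_mul_eq_one_right hy2]⟩
  · obtain ⟨n, -, e⟩ := htrans a ha.1 fun e => by rw [e, orderOf_one] at ha2; omega
    exact isConj_iff.mpr ⟨n, e⟩
  -- the socle is `A₅` and is everything
  have hPX : (P : Subgroup (↥C ⧸ R)) ≤ X := le_of_odd_index hodd P.isPGroup'
  have hPX4 : Nat.card ((P.subtype hPX : Sylow 2 ↥X) : Subgroup ↥X) = 4 :=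
    (Nat.card_congr (Subgroup.subgroupOfEquivOfLe hPX).toEquiv).trans hP4
  have hq4 : sqCount ((P.subtype hPX : Sylow 2 ↥X) : Subgroup ↥X) = 4 := by
    refine le_antisymm ?_ (le_trans (four_le_ctrInv hXna hciX (P.subtype hPX))
      (Nat.card_le_card_of_injective
        (fun y : ctrInv ((P.subtype hPX : Sylow 2 ↥X) : Subgroup ↥X) =>
          (⟨y.1, y.2.1, y.2.2.1⟩ : {y : ↥X // y ∈ ((P.subtype hPX : Sylow 2 ↥X) : Subgroup ↥X) ∧
            y * y = 1}))
        fun a b e => Subtype.ext (congrArg Subtype.val e :)))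
    rw [← hPX4]
    exact Nat.card_le_card_of_injective
      (fun y : {y : ↥X // y ∈ ((P.subtype hPX : Sylow 2 ↥X) : Subgroup ↥X) ∧ y * y = 1} =>
        (⟨y.1, y.2.1⟩ : ((P.subtype hPX : Sylow 2 ↥X) : Subgroup ↥X)))
      fun a b e => Subtype.ext (congrArg Subtype.val e :)
  obtain ⟨e⟩ := S0494.result (card_sixty_of_bender (bender_of_se hXna hSE) _ hPX4 hq4)
  have hXtop : X = ⊤ := eq_top_of_altFive X hXC hodd e
  let eY : ↥C ⧸ R ≃* alternatingGroup (Fin 5) :=
    topEquiv.symm.trans ((MulEquiv.subgroupCongr hXtop.symm).trans e)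
  exact janko_of_data hna h S hzA.1 hz hbad hsq h8 htrans C hC hns
    (eY.toMonoidHom.comp π) (eY.surjective.comp hπ)
    (by
      rw [← hR]
      ext y
      rw [MonoidHom.mem_ker, MonoidHom.comp_apply, MulEquiv.coe_toMonoidHom, MulEquiv.map_eq_one_iff,
        hπdef, QuotientGroup.mk'_apply, QuotientGroup.eq_one_iff])

end Cfsg.Agent.H60.CycInt
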