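import Cfsg.Agent.H60.CycInt.Basic
import Cfsg.Agent.H40.SupSolvable
import Cfsg.Agent.Cores.Basic
import Cfsg.Prelude.Def_RootSubgroups

/-!
# Groups in which distinct Sylow 2-subgroups meet in cyclic groups: radical and socle

The solvable case, the solvable radical, and the simple socle when the radical is trivial.
-/

set_option autoImplicit false
set_option linter.style.haveILetI false
set_option linter.unusedSectionVars false

namespace Cfsg.Agent.H60.CycInt

open Subgroup Cfsg.Agent.H24.CycInt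
open scoped Pointwise

local instance : Fact (Nat.Prime 2) := ⟨Nat.prime_two⟩

universe u

variable {G : Type u} [Group G] [Finite G]

theorem rad_normal : (Cfsg.solvableRadical G).Normal := sSup_normal _ fun _ h => h.1

theorem rad_solvable : Group.IsSolvable ↥(Cfsg.solvableRadical G) :=
  (Cores.sSup_mem_of_closed (S := {N : Subgroup G | N.Normal ∧ Group.IsSolvable N})
    ⟨inferInstance, inferInstance⟩ (by
      rintro A ⟨hA, hAs⟩ B ⟨hB, hBs⟩
      exact ⟨Subgroup.sup_normal A B, H40.isSolvable_sup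
        (fun x _ => (normalizer_eq_top_iff.2 hA) ▸ mem_top x) hAs hBs⟩)).2

theorem le_rad {N : Subgroup G} (hN : N.Normal) (h : Group.IsSolvable ↥N) :
    N ≤ Cfsg.solvableRadical G := le_sSup ⟨hN, h⟩

/-- Extensions of solvable by solvable. -/
theorem solvable_of_quotient {N : Subgroup G} [N.Normal] (hN : Group.IsSolvable ↥N)
    (hQ : Group.IsSolvable (G ⧸ N)) : Group.IsSolvable G :=
  haveI := hN
  haveI := hQ
  H24.CycInt.isSolvable_of_solvable_quotient N

theorem solvable_of_injective {H : Type*} [Group H] (hG : Group.IsSolvable G) (f : H →* G)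
    (hf : Function.Injective f) : Group.IsSolvable H :=
  haveI := hG
  Group.isSolvable_of_isSolvable_injective hf

theorem radFree_quotient {R : Subgroup G} [R.Normal] (hR : Group.IsSolvable ↥R)
    (hmax : ∀ N : Subgroup G, N.Normal → Group.IsSolvable ↥N → N ≤ R) : RadFree (G ⧸ R) := by
  intro N hN hNs
  set π := QuotientGroup.mk' R
  haveI hM : (N.comap π).Normal := hN.comap π
  have hMs : Group.IsSolvable ↥(N.comap π) := by
    haveI := hNs
    haveI : Group.IsSolvable ↥(R.subgroupOf (N.comap π)) :=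
      solvable_of_injective hR
        { toFun := fun x => ⟨(x : N.comap π), x.2⟩, map_one' := rfl, map_mul' := fun _ _ => rfl }
        (fun x y e => Subtype.ext (Subtype.ext (congrArg Subtype.val e :)))
    refine Group.isSolvable_of_ker_le_range (R.subgroupOf (N.comap π)).subtype (π.subgroupComap N) ?_
    intro x hx
    rw [MonoidHom.mem_ker] at hx
    exact ⟨⟨x, by
      rw [mem_subgroupOf]
      exact (QuotientGroup.eq_one_iff _).mp (congrArg Subtype.val hx)⟩, rfl⟩
  have := hmax _ hM hMs
  rw [eq_bot_iff]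
  intro y hy
  obtain ⟨x, rfl⟩ := QuotientGroup.mk'_surjective R y
  exact mem_bot.mpr ((QuotientGroup.eq_one_iff _).mpr (this hy))

theorem not_solvable_quotient {R : Subgroup G} [R.Normal] (hR : Group.IsSolvable ↥R)
    (hns : ¬ Group.IsSolvable G) : ¬ Group.IsSolvable (G ⧸ R) :=
  fun h => hns (solvable_of_quotient hR h)

/-- In the solvable case a non-cyclic Sylow 2-subgroup is normal modulo the odd core. -/
theorem solvable_structure (h : CI G) (hs : Group.IsSolvable G) {Q : Sylow 2 G}
    (hQ : ¬ IsCyclic (Q : Subgroup G)) (c : G) :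
    ∃ o ∈ Cfsg.oddCore G, o⁻¹ * c ∈ normalizer ((Q : Subgroup G) : Set G) := by
  set O := Cfsg.oddCore G with hO
  set π := QuotientGroup.mk' O
  have hci := h.quotient O
  have hOQ : Cfsg.oddCore (G ⧸ O) = ⊥ := Cores.pPrimeCore_quotient_pPrimeCore
  haveI := hs
  haveI : Group.IsSolvable (G ⧸ O) := Group.isSolvable_of_surjective (QuotientGroup.mk'_surjective O)
  set W := Cfsg.pCore 2 (G ⧸ O) with hW
  have hall : ∀ S T : Sylow 2 (G ⧸ O), S = T := by
    intro S T
    by_cases hc : IsCyclic W
    · have hF : Cfsg.fittingSubgroup (G ⧸ O) ≤ W := by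
        rw [Cores.iSup_pCore_eq_fittingSubgroup]
        refine (Cores.iSup_pCore_le_sup 2).trans (sup_le ?_ le_rfl)
        rw [show Cfsg.pPrimeCore 2 (G ⧸ O) = ⊥ from hOQ]
        exact bot_le
      have hCW : centralizer (W : Set (G ⧸ O)) ≤ W := fun x hx =>
        hF (Cores.centralizer_fittingSubgroup_le (centralizer_le hF hx))
      set φ : G ⧸ O →* MulAut W := MulAut.conjNormal
      have hker : φ.ker ≤ W := fun x hx => hCW (mem_centralizer_iff.mpr fun y hy => by
        have := congrArg Subtype.val (DFunLike.congr_fun (MonoidHom.mem_ker.mp hx) (⟨y, hy⟩ : W))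
        rw [MulAut.conjNormal_apply] at this
        exact (mul_inv_eq_iff_eq_mul.mp this).symm)
      haveI := hc
      obtain ⟨n, hn⟩ := IsPGroup.iff_card.mp (Cores.pCore_isPGroup (p := 2) (G := G ⧸ O))
      have h2 : IsPGroup 2 (G ⧸ O) := by
        have h1 := φ.ker.card_mul_index
        rw [Subgroup.index_ker] at h1
        obtain ⟨a, ha, hk⟩ := (Nat.dvd_prime_pow Nat.prime_two).mp (hn ▸ card_dvd_of_le hker)
        have hr : Nat.card φ.range ∣ 2 ^ (n - 1) := by
          refine (card_subgroup_dvd_card φ.range).trans ?_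
          rw [IsCyclic.card_mulAut, hn]
          rcases n with _ | m
          · simp
          · rw [Nat.totient_prime_pow Nat.prime_two (Nat.succ_pos m)]; simp
        obtain ⟨b, hb, hk'⟩ := (Nat.dvd_prime_pow Nat.prime_two).mp hr
        exact IsPGroup.of_card (n := a + b) (by rw [← h1, hk, hk', pow_add])
      refine Sylow.ext (le_antisymm ?_ ?_)
      · rw [← T.is_maximal' (h2.to_subgroup ⊤) le_top]; exact le_top
      · rw [← S.is_maximal' (h2.to_subgroup ⊤) le_top]; exact le_top
    · exact eq_of_le hci hc (Cores.pCore_le_sylow S) (Cores.pCore_le_sylow T)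
  set K := (Q : Subgroup G) ⊔ O with hK
  have hcQ : ((c • Q : Sylow 2 G) : Subgroup G) ≤ K := by
    intro x hx
    have hx' : π x ∈ (((c • Q).mapSurjective (QuotientGroup.mk'_surjective O) : Sylow 2 (G ⧸ O)) :
        Subgroup (G ⧸ O)) := by
      rw [Sylow.coe_mapSurjective]; exact mem_map_of_mem π hx
    rw [hall ((c • Q).mapSurjective (QuotientGroup.mk'_surjective O))
        (Q.mapSurjective (QuotientGroup.mk'_surjective O)), Sylow.coe_mapSurjective,
      ← mem_comap, comap_map_eq, QuotientGroup.ker_mk'] at hx'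
    exact hx'
  obtain ⟨k, hk⟩ := MulAction.exists_smul_eq K (Q.subtype le_sup_left) ((c • Q).subtype hcQ)
  obtain ⟨q, hq, o, ho, hqo⟩ : ∃ q ∈ (Q : Subgroup G), ∃ o ∈ O, q * o = (k : G) :=
    mem_sup_of_normal_right.mp k.2
  have hkQ : (k : G) • Q = c • Q := by
    refine Sylow.ext ?_
    have h0 := congrArg (fun R : Sylow 2 K => (R : Subgroup K).map K.subtype) hk
    simp only [Sylow.coe_subtype] at h0
    rw [Subgroup.subgroupOf_map_subtype, inf_eq_left.mpr hcQ] at h0
    rw [Sylow.coe_subgroup_smul, Sylow.coe_subtype] at h0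
    rw [← h0, Sylow.coe_subgroup_smul]
    ext x
    constructor
    · rintro ⟨y, hy, rfl⟩
      exact ⟨k * ⟨y, le_sup_left (b := O) hy⟩ * k⁻¹, ⟨⟨y, le_sup_left (b := O) hy⟩, hy, rfl⟩, rfl⟩
    · rintro ⟨_, ⟨y, hy, rfl⟩, rfl⟩
      exact ⟨(y : G), hy, rfl⟩
  refine ⟨q * o * q⁻¹, (inferInstance : O.Normal).conj_mem o ho q, ?_⟩
  refine Sylow.smul_eq_iff_mem_normalizer.mp ?_
  have hqQ : q⁻¹ • Q = Q := Sylow.smul_eq_iff_mem_normalizer.mpr (inv_mem (le_normalizer hq))
  rw [mul_smul, inv_smul_eq_iff, mul_smul (q * o), hqQ, hqo, hkQ]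

/-- An involution centralised by an elementary group of order 8 with solvable centraliser: its
centraliser normalises the Sylow 2-subgroup. -/
theorem centralizer_le_of_solvable (h : CI G) {S : Sylow 2 G} {E : Subgroup G}
    (hE : E ≤ (S : Subgroup G)) (hsq : ∀ x ∈ E, x * x = 1) (h8 : 8 ≤ Nat.card E) {u : G}
    (hu : orderOf u = 2) (huE : u ∈ E)
    (hsol : Group.IsSolvable ↥(centralizer ({u} : Set G))) {c : G} (hc : Commute c u) :
    c ∈ normalizer ((S : Subgroup G) : Set G) := by
  set C := centralizer ({u} : Set G) with hC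
  have hcomm : ∀ x ∈ E, Commute x u := by
    intro x hx
    have e1 : x⁻¹ = x := inv_eq_of_mul_eq_one_right (hsq x hx)
    have e2 : u⁻¹ = u := inv_eq_of_mul_eq_one_right (hsq u huE)
    have e3 : (x * u)⁻¹ = x * u := inv_eq_of_mul_eq_one_right (hsq _ (mul_mem hx huE))
    rw [mul_inv_rev, e1, e2] at e3
    exact e3.symm
  have hEC : E ≤ C := fun x hx => commute_iff_mem.mpr (hcomm x hx)
  obtain ⟨Q, hQ⟩ := ((S.isPGroup'.to_le hE).comap_subtype (K := C)).exists_le_sylow
  have hEQ : ∀ x (hx : x ∈ E), (⟨x, hEC hx⟩ : C) ∈ (Q : Subgroup C) := fun x hx => hQ hx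
  have hEnc : ¬ IsCyclic E := not_cyclic_of_sq hsq (by omega)
  have hQnc : ¬ IsCyclic (Q : Subgroup C) := by
    intro hc'
    haveI := hc'
    exact hEnc (isCyclic_of_injective
      ({ toFun := fun x => ⟨⟨x, hEC x.2⟩, hEQ x x.2⟩
         map_one' := rfl
         map_mul' := fun _ _ => rfl } : E →* (Q : Subgroup C))
      (fun x y e => Subtype.ext (by simpa using congrArg (fun z : (Q : Subgroup C) => ((z : C) : G)) e)))
  obtain ⟨o, ho, hon⟩ := solvable_structure (h.subgroup C) hsol hQnc ⟨c, commute_iff_mem.mpr hc⟩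
  obtain ⟨T, hT⟩ := (Q.isPGroup'.map C.subtype).exists_le_sylow
  obtain rfl : T = S := eq_of_le h hEnc (fun x hx => hT ⟨_, hEQ x hx, rfl⟩) hE
  have hQnc' : ¬ IsCyclic ↥((Q : Subgroup C).map C.subtype) := fun hc' => hQnc (by
    haveI := hc'
    exact isCyclic_of_surjective _
      ((Q : Subgroup C).equivMapOfInjective _ C.subtype_injective).symm.surjective)
  have h1 : ((o : G))⁻¹ * c ∈ normalizer ((T : Subgroup G) : Set G) := by
    refine mem_normalizer_of_normalizes h hQnc' hT ?_
    rintro _ ⟨y, hy, rfl⟩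
    refine ⟨(o⁻¹ * ⟨c, commute_iff_mem.mpr hc⟩ : C)⁻¹ * y * (o⁻¹ * ⟨c, commute_iff_mem.mpr hc⟩),
      ?_, by simp⟩
    simpa only [mul_inv_rev, inv_inv, SetLike.mem_coe] using (mem_normalizer_iff.mp (inv_mem hon) y).mp hy
  have hoN : ((Cfsg.oddCore C).map C.subtype) ≤ normalizer ((T : Subgroup G) : Set G) := by
    refine le_normalizer_of_elem h hE hsq h8 hu huE ?_ ?_ ?_
    · rw [card_map_of_injective C.subtype_injective]; exact Cores.odd_card_oddCore
    · intro x hx
      refine mem_normalizer_iff.mpr fun y => ⟨?_, ?_⟩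
      · rintro ⟨z, hz, rfl⟩
        exact ⟨⟨x, hEC hx⟩ * z * ⟨x, hEC hx⟩⁻¹,
          (inferInstance : (Cfsg.oddCore C).Normal).conj_mem z hz _, rfl⟩
      · rintro ⟨z, hz, e⟩
        refine ⟨⟨x, hEC hx⟩⁻¹ * z * ⟨x, hEC hx⟩, ?_, ?_⟩
        · simpa using (inferInstance : (Cfsg.oddCore C).Normal).conj_mem z hz (⟨x, hEC hx⟩ : C)⁻¹
        · show x⁻¹ * (z : G) * x = y
          rw [show (z : G) = x * y * x⁻¹ from e]; group
    · rintro _ ⟨z, -, rfl⟩
      exact commute_iff_mem.mp z.2
  have := mul_mem (hoN ⟨o, ho, rfl⟩) h1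
  simpa using this

theorem sylow_not_cyclic_of_perfectSimple [IsSimpleGroup G] (hna : ¬ IsMulCommutative G)
    (S : Sylow 2 G) : ¬ IsCyclic (S : Subgroup G) := by
  have heven : 2 ∣ Nat.card G := by
    rw [← even_iff_two_dvd]
    refine Nat.not_odd_iff_even.mp fun ho => ?_
    haveI := solvable_odd ho
    exact hna ⟨⟨(IsSimpleGroup.comm_iff_isSolvable (G := G)).mpr inferInstance⟩⟩
  intro hc
  have hle := hc.normalizer_le_centralizer ((Nat.minFac_eq_two_iff _).mpr heven)
  have hK := MonoidHom.ker_transferSylow_isComplement' S hle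
  rcases (MonoidHom.normal_ker (MonoidHom.transferSylow S hle)).eq_bot_or_eq_top with e | e
  · have h1 := hK.index_eq_card
    rw [e, card_bot, index_eq_one] at h1
    have hp : IsPGroup 2 (⊤ : Subgroup G) := h1 ▸ S.isPGroup'
    haveI : Group.IsNilpotent G := (hp.of_equiv topEquiv).isNilpotent
    exact hna ⟨⟨(IsSimpleGroup.comm_iff_isSolvable (G := G)).mpr inferInstance⟩⟩
  · have h1 := hK.index_eq_card
    rw [e, card_top] at h1
    exact S.not_dvd_index (h1.symm ▸ heven)

section Socle

variable (h : CI G)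
include h

/-- Two commuting subgroups meeting trivially, each with a non-cyclic Sylow 2-subgroup, the second
with two of them. -/
theorem false_of_commuting {A B : Subgroup G} (hc : ∀ a ∈ A, ∀ b ∈ B, Commute a b)
    (P : Sylow 2 A) (hP : ¬ IsCyclic (P : Subgroup A)) {Q₁ Q₂ : Sylow 2 B} (hne : Q₁ ≠ Q₂) :
    False := by
  have key : ∀ Q : Sylow 2 B, ∃ T : Sylow 2 G, (P : Subgroup A).map A.subtype ≤ (T : Subgroup G) ∧
      (Q : Subgroup B).map B.subtype ≤ (T : Subgroup G) := by
    intro Q
    have hle : (Q : Subgroup B).map B.subtype ≤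
        normalizer (((P : Subgroup A).map A.subtype : Subgroup G) : Set G) := by
      rintro _ ⟨b, -, rfl⟩
      refine centralizer_le_normalizer _ (mem_centralizer_iff.mpr ?_)
      rintro _ ⟨a, -, rfl⟩
      exact hc a a.2 b b.2
    obtain ⟨T, hT⟩ := ((P.isPGroup'.map A.subtype).to_sup_of_normal_left'
      (Q.isPGroup'.map B.subtype) hle).exists_le_sylow
    exact ⟨T, le_sup_left.trans hT, le_sup_right.trans hT⟩
  obtain ⟨T₁, hP₁, hQ₁⟩ := key Q₁
  obtain ⟨T₂, hP₂, hQ₂⟩ := key Q₂
  have hPnc : ¬ IsCyclic ↥((P : Subgroup A).map A.subtype) := fun hc' => hP (by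
    haveI := hc'
    exact isCyclic_of_surjective _
      ((P : Subgroup A).equivMapOfInjective _ A.subtype_injective).symm.surjective)
  obtain rfl := eq_of_le h hPnc hP₁ hP₂
  have hp : IsPGroup 2 ↥((T₁ : Subgroup G).comap B.subtype) := T₁.isPGroup'.comap_subtype (K := B)
  have e1 := Q₁.is_maximal' hp fun x hx => hQ₁ ⟨x, hx, rfl⟩
  have e2 := Q₂.is_maximal' hp fun x hx => hQ₂ ⟨x, hx, rfl⟩
  exact hne (Sylow.ext (e1.symm.trans e2))

/-- Without solvable normal subgroups: a simple normal subgroup with trivial centraliser. -/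
theorem exists_socle (hns : ¬ Group.IsSolvable G) (hrf : RadFree G) :
    ∃ X : Subgroup G, X.Normal ∧ IsSimpleGroup ↥X ∧ ¬ IsMulCommutative ↥X ∧
      centralizer (X : Set G) = ⊥ := by
  classical
  haveI : Nontrivial G := by
    by_contra hh
    rw [not_nontrivial_iff_subsingleton] at hh
    exact hns (Group.isSolvable_of_comm fun a b => Subsingleton.elim _ _)
  haveI : Nonempty {N : Subgroup G // N.Normal ∧ N ≠ ⊥} := ⟨⟨⊤, inferInstance, top_ne_bot⟩⟩
  obtain ⟨⟨N, hN, hNne⟩, hmin⟩ := Finite.exists_min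
    fun N : {N : Subgroup G // N.Normal ∧ N ≠ ⊥} => Nat.card ↥(N.1)
  haveI := hN
  haveI : Nontrivial ↥N := (Subgroup.nontrivial_iff_ne_bot _).2 hNne
  -- normal solvable subgroups of `N` are trivial
  have hrfN : RadFree ↥N := by
    intro L hL hLs
    haveI hRn := rad_normal (G := ↥N)
    set R := Cfsg.solvableRadical ↥N
    have hK : (R.map N.subtype).Normal := ⟨by
      rintro _ ⟨y, hy, rfl⟩ g
      have h1 : R.map (MulAut.conjNormal g : MulAut ↥N).toMonoidHom ≤ R :=
        le_rad (hRn.map _ (MulAut.conjNormal g : MulAut ↥N).surjective) (by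
          haveI := rad_solvable (G := ↥N)
          exact Group.isSolvable_of_surjective
            ((MulAut.conjNormal g : MulAut ↥N).toMonoidHom.subgroupMap_surjective R))
      exact ⟨_, h1 (mem_map_of_mem _ hy), MulAut.conjNormal_apply g y⟩⟩
    have h0 := hrf _ hK (by
      haveI := rad_solvable (G := ↥N)
      exact Group.isSolvable_of_surjective (N.subtype.subgroupMap_surjective R))
    rw [map_eq_bot_iff_of_injective _ N.subtype_injective] at h0
    exact le_bot_iff.mp (h0 ▸ le_rad hL hLs)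
  have hnsN : ∀ L : Subgroup ↥N, L.Normal → L ≠ ⊥ → ¬ Group.IsSolvable ↥L :=
    fun L hL hne hs => hne (hrfN L hL hs)
  have hsimp : IsSimpleGroup ↥N := by
    refine ⟨fun L hL => or_iff_not_imp_left.2 fun hLne => ?_⟩
    haveI : Nonempty {M : Subgroup ↥N // M.Normal ∧ M ≠ ⊥} := ⟨⟨L, hL, hLne⟩⟩
    obtain ⟨⟨L₀, hL₀, hL₀ne⟩, hmin₀⟩ := Finite.exists_min
      fun M : {M : Subgroup ↥N // M.Normal ∧ M ≠ ⊥} => Nat.card ↥(M.1)
    haveI := hL₀
    have hfix : ∀ g : G, L₀.map (MulAut.conjNormal g : MulAut ↥N).toMonoidHom = L₀ := by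
      intro g
      set R : Subgroup ↥N := L₀.map (MulAut.conjNormal g : MulAut ↥N).toMonoidHom
      haveI hR : R.Normal := hL₀.map _ (MulAut.conjNormal g : MulAut ↥N).surjective
      have hRne : R ≠ ⊥ := fun e => hL₀ne
        ((map_eq_bot_iff_of_injective _ (MulAut.conjNormal g : MulAut ↥N).injective).mp e)
      by_cases hle : L₀ ⊓ R = ⊥
      · exfalso
        have hA := hnsN L₀ hL₀ hL₀ne
        have hB := hnsN R hR hRne
        have hA' : ¬ Group.IsSolvable ↥(L₀.map N.subtype) := fun hh =>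
          hA (solvable_of_injective hh (L₀.equivMapOfInjective _ N.subtype_injective).toMonoidHom
            (MulEquiv.injective _))
        have hB' : ¬ Group.IsSolvable ↥(R.map N.subtype) := fun hh =>
          hB (solvable_of_injective hh (R.equivMapOfInjective _ N.subtype_injective).toMonoidHom
            (MulEquiv.injective _))
        obtain ⟨P⟩ := (inferInstance : Nonempty (Sylow 2 ↥(L₀.map N.subtype)))
        have hPnc : ¬ IsCyclic (P : Subgroup ↥(L₀.map N.subtype)) := by
          intro hc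
          rcases Nat.even_or_odd (Nat.card ↥(L₀.map N.subtype)) with he | ho
          · have hmin := (Nat.minFac_eq_two_iff _).mpr he.two_dvd
            have hle := hc.normalizer_le_centralizer hmin
            have hK := MonoidHom.ker_transferSylow_isComplement' P hle
            set K := (MonoidHom.transferSylow P hle).ker
            haveI : Group.IsSolvable ↥K := solvable_odd (by
              rw [← hK.index_eq_card, ← Nat.not_even_iff_odd, even_iff_two_dvd]
              exact P.not_dvd_index)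
            haveI : Group.IsSolvable ↥(MonoidHom.transferSylow P hle).range := by
              haveI := (P.isPGroup'.to_subgroup (MonoidHom.transferSylow P hle).range).isNilpotent
              infer_instance
            exact hA' (Group.isSolvable_of_ker_le_range K.subtype
              (MonoidHom.transferSylow P hle).rangeRestrict (by
                rw [MonoidHom.ker_rangeRestrict, range_subtype]))
          · exact hA' (solvable_odd ho)
        obtain ⟨Q₁, Q₂, hQ⟩ := H24.CycInt.exists_ne_sylow (fun H _ _ hh => solvable_odd hh) hB'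
        refine false_of_commuting h ?_ P hPnc hQ
        rintro _ ⟨a, ha, rfl⟩ _ ⟨b, hb, rfl⟩
        exact (Subgroup.commute_of_normal_of_disjoint L₀ R hL₀ hR (disjoint_iff.mpr hle) a b ha hb).map
          N.subtype
      · have hle' : L₀ ≤ R := by
          have := Subgroup.eq_of_le_of_card_ge (inf_le_left : L₀ ⊓ R ≤ L₀)
            (hmin₀ ⟨L₀ ⊓ R, inferInstance, hle⟩)
          exact this ▸ inf_le_right
        exact (Subgroup.eq_of_le_of_card_ge hle'
          (card_map_of_injective (MulAut.conjNormal g : MulAut ↥N).injective).le).symm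
    have hKn : (L₀.map N.subtype).Normal := ⟨by
      rintro _ ⟨y, hy, rfl⟩ g
      exact ⟨_, (hfix g).le (mem_map_of_mem _ hy), MulAut.conjNormal_apply g y⟩⟩
    have hne : L₀.map N.subtype ≠ ⊥ := fun e =>
      hL₀ne ((map_eq_bot_iff_of_injective _ N.subtype_injective).mp e)
    have hKeq : L₀.map N.subtype = N := Subgroup.eq_of_le_of_card_ge (map_subtype_le _)
      (hmin ⟨_, hKn, hne⟩)
    refine Subgroup.eq_top_of_card_eq L (le_antisymm (Subgroup.card_le_card_group L) ?_)
    calc Nat.card ↥N = Nat.card ↥(L₀.map N.subtype) := by rw [hKeq]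
      _ = Nat.card ↥L₀ := Subgroup.card_map_of_injective N.subtype_injective
      _ ≤ Nat.card ↥L := hmin₀ ⟨L, hL, hLne⟩
  have hna : ¬ IsMulCommutative ↥N := by
    intro hc
    exact hNne (hrf N hN (Group.isSolvable_of_comm fun a b => hc.is_comm.comm a b))
  refine ⟨N, hN, hsimp, hna, ?_⟩
  haveI := hsimp
  by_contra hC
  have hCn : (centralizer (N : Set G)).Normal := inferInstance
  have hCs : ¬ Group.IsSolvable ↥(centralizer (N : Set G)) := fun hs => hC (hrf _ hCn hs)
  obtain ⟨P⟩ := (inferInstance : Nonempty (Sylow 2 ↥N))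
  obtain ⟨Q₁, Q₂, hQ⟩ := H24.CycInt.exists_ne_sylow (fun H _ _ hh => solvable_odd hh) hCs
  exact false_of_commuting h (fun a ha b hb => mem_centralizer_iff.mp hb a ha)
    P (sylow_not_cyclic_of_perfectSimple hna P) hQ

end Socle

section Rad

variable (h : CI G) (hns : ¬ Group.IsSolvable G)
include h hns

/-- The solvable radical is central modulo the odd core. -/
theorem commutator_rad_mem {r : G} (hr : r ∈ Cfsg.solvableRadical G) (g : G) :
    g * r * g⁻¹ * r⁻¹ ∈ Cfsg.oddCore G := by
  haveI := rad_normal (G := G)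
  obtain ⟨-, -, hc⟩ := H24.CycInt.radical_structure (fun H _ _ hh => solvable_odd hh) h hns
    (Cfsg.solvableRadical G) rad_solvable
  have h1 := mem_center_iff.mp (hc (mem_map_of_mem _ hr)) (QuotientGroup.mk' (Cfsg.oddCore G) g)
  rw [← QuotientGroup.eq_one_iff]
  show QuotientGroup.mk' (Cfsg.oddCore G) (g * r * g⁻¹ * r⁻¹) = 1
  rw [map_mul, map_mul, map_mul, h1, map_inv, map_inv, mul_inv_cancel_right, mul_inv_cancel]

theorem isCyclic_inf_rad (S : Sylow 2 G) :
    IsCyclic ↥((S : Subgroup G) ⊓ Cfsg.solvableRadical G) := by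
  haveI := rad_normal (G := G)
  obtain ⟨hc, -, -⟩ := H24.CycInt.radical_structure (fun H _ _ hh => solvable_odd hh) h hns
    (Cfsg.solvableRadical G) rad_solvable
  haveI := hc
  set f : ↥((S : Subgroup G) ⊓ Cfsg.solvableRadical G) →*
      ↥((Cfsg.solvableRadical G).map (QuotientGroup.mk' (Cfsg.oddCore G))) :=
    { toFun := fun x => ⟨QuotientGroup.mk' _ (x : G), mem_map_of_mem _ x.2.2⟩
      map_one' := Subtype.ext (map_one _)
      map_mul' := fun _ _ => Subtype.ext (map_mul _ _ _) }
  refine isCyclic_of_injective f ((injective_iff_map_eq_one f).mpr fun x hx => ?_)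
  have h1 : (x : G) ∈ (S : Subgroup G) ⊓ Cfsg.oddCore G :=
    ⟨x.2.1, (QuotientGroup.eq_one_iff _).mp (congrArg Subtype.val hx)⟩
  rw [Cores.disjoint_of_isPGroup_of_coprime S.isPGroup'
    (Nat.coprime_two_right.mpr Cores.odd_card_oddCore), mem_bot] at h1
  exact Subtype.ext h1

theorem mem_oddCore_of_odd_rad {r : G} (hr : r ∈ Cfsg.solvableRadical G)
    (ho : Odd (orderOf r)) : r ∈ Cfsg.oddCore G := by
  haveI := rad_normal (G := G)
  obtain ⟨-, h2, -⟩ := H24.CycInt.radical_structure (fun H _ _ hh => solvable_odd hh) h hns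
    (Cfsg.solvableRadical G) rad_solvable
  obtain ⟨n, hn⟩ := h2 ⟨QuotientGroup.mk' _ r, mem_map_of_mem _ hr⟩
  have hd : orderOf (QuotientGroup.mk' (Cfsg.oddCore G) r) ∣ 2 ^ n :=
    orderOf_dvd_of_pow_eq_one (congrArg Subtype.val hn)
  have h3 := Nat.eq_one_of_dvd_coprimes
    (Nat.Coprime.pow_left n (Nat.coprime_two_left.mpr ho)) hd (orderOf_map_dvd _ r)
  exact (QuotientGroup.eq_one_iff r).mp (orderOf_eq_one_iff.mp h3)

end Rad

end Cfsg.Agent.H60.CycInt
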