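import Cfsg.Agent.H60.CycInt.Simple
import Cfsg.Agent.S1174
import Cfsg.Prelude.Def_Sporadic

/-!
# Simple groups in which distinct Sylow 2-subgroups meet in cyclic groups: the types

Either every involution lies in one Sylow 2-subgroup, or some central involution of a Sylow 2-subgroup
lies in two; then the case of a solvable centraliser is treated here.
-/

set_option autoImplicit false
set_option linter.style.haveILetI false
set_option linter.unusedSectionVars false

namespace Cfsg.Agent.H60.CycInt

open Subgroup Cfsg.Agent.H24.CycInt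
open scoped Pointwise

local instance fact_two_typed : Fact (Nat.Prime 2) := ⟨Nat.prime_two⟩

universe u

/-- The elements of square one of each Sylow 2-subgroup are the four central ones. -/
def FourType (X : Type*) [Group X] : Prop :=
  ∀ S : Sylow 2 X, Nat.card (ctrInv (S : Subgroup X)) = 4 ∧
    ∀ x ∈ (S : Subgroup X), x * x = 1 → x ∈ ctrInv (S : Subgroup X)

/-- The possible types of a simple group with cyclic Sylow 2-intersections. -/
def Typed (X : Type*) [Group X] : Prop :=
  (∃ H : Subgroup X, Cfsg.IsStronglyEmbedded H) ∨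
    ((∀ u : X, orderOf u = 2 → ¬ Good u) ∧ (FourType X ∨ Cfsg.IsJ1 X))

variable {G : Type u} [Group G] [Finite G]

theorem mem_normalizer_conj_sylow {S : Sylow 2 G} (g : G) {x : G}
    (hx : x ∈ ctrInv (S : Subgroup G)) :
    g * x * g⁻¹ ∈ ctrInv ((g • S : Sylow 2 G) : Subgroup G) := by
  refine ⟨H24.CycInt.conj_mem_smul hx.1, ?_, fun s hs => ?_⟩
  · rw [show g * x * g⁻¹ * (g * x * g⁻¹) = g * (x * x) * g⁻¹ by group, hx.2.1]; group
  · have := (hx.2.2 _ (H24.CycInt.mem_smul_iff.mp hs)).map (MulAut.conj g).toMonoidHom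
    simpa [mul_assoc] using this

theorem sylow_le_centralizer {S : Sylow 2 G} {z : G} (hz : z ∈ ctrInv (S : Subgroup G)) :
    (S : Subgroup G) ≤ centralizer ({z} : Set G) := fun s hs => commute_iff_mem.mpr (hz.2.2 s hs)

variable [IsSimpleGroup G]

theorem one_lt_card (hna : ¬ IsMulCommutative G) : (⊥ : Subgroup G) ≠ ⊤ := by
  haveI : Nontrivial G := IsSimpleGroup.toNontrivial
  exact bot_ne_top

/-- A strongly embedded subgroup, or a central involution in two Sylow 2-subgroups. -/
theorem se_or_bad (hna : ¬ IsMulCommutative G) (h : CI G) (S : Sylow 2 G) :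
    (∃ H : Subgroup G, Cfsg.IsStronglyEmbedded H) ∨
      ∃ z ∈ ctrInv (S : Subgroup G), orderOf z = 2 ∧ ¬ Good z := by
  by_cases hbad : ∃ z ∈ ctrInv (S : Subgroup G), orderOf z = 2 ∧ ¬ Good z
  · exact Or.inr hbad
  push Not at hbad
  left
  have hS := sylow_not_cyclic_of_perfectSimple hna S
  set A := ctrInv (S : Subgroup G) with hA
  refine S1174.result S A ?_ ⟨ctrInv_le _, fun x hx g hg => ?_⟩ ?_
  · intro e
    have := four_le_ctrInv hna h S
    rw [← hA, e, card_bot] at this
    omega
  · rcases eq_or_ne x 1 with rfl | hx1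
    · simp
    obtain ⟨n, hn, e⟩ := exists_normalizer_conj h hS (orderOf_two hx.2.1 hx1) hx.1 hg
    exact e ▸ ctrInv_invariant hn hx
  · intro htop
    have hle : (⨆ t : {t : G // t ∈ A ∧ orderOf t = 2}, centralizer ({(t : G)} : Set G)) ≤
        normalizer ((S : Subgroup G) : Set G) :=
      iSup_le fun t c hc => mem_normalizer_of_good (hbad t t.2.1 t.2.2) (ctrInv_le _ t.2.1)
        (commute_iff_mem.mp hc)
    rw [htop, top_le_iff, normalizer_eq_top_iff] at hle
    rcases hle.eq_bot_or_eq_top with e | e
    · exact sylow_ne_bot_of_not_cyclic hS e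
    · haveI : Group.IsNilpotent G :=
        ((e ▸ S.isPGroup' : IsPGroup 2 (⊤ : Subgroup G)).of_equiv topEquiv).isNilpotent
      exact hna ⟨⟨(IsSimpleGroup.comm_iff_isSolvable (G := G)).mpr inferInstance⟩⟩

/-- All involutions are bad once those of `ctrInv S` are conjugate and fill the involutions of `S`. -/
theorem all_bad {S : Sylow 2 G} (hall : ∀ x ∈ (S : Subgroup G), x * x = 1 → x ∈ ctrInv (S : Subgroup G))
    {z : G} (hbad : ¬ Good z)
    (htrans : ∀ a ∈ ctrInv (S : Subgroup G), orderOf a = 2 → IsConj z a) :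
    ∀ u : G, orderOf u = 2 → ¬ Good u := by
  intro u hu hgood
  obtain ⟨T, hT⟩ := (isPGroup_zpowers_invol hu).exists_le_sylow
  obtain ⟨g, rfl⟩ := MulAction.exists_smul_eq G S T
  have hx := H24.CycInt.mem_smul_iff.mp (hT (mem_zpowers u))
  have ho : orderOf (g⁻¹ * u * g) = 2 := by
    have := orderOf_inv_conj g⁻¹ u
    rw [inv_inv] at this
    rw [this, hu]
  have hc : IsConj u (g⁻¹ * u * g) := isConj_iff.mpr ⟨g⁻¹, by rw [inv_inv]⟩
  exact hbad ((hgood.of_isConj hc).of_isConj (htrans _ (hall _ hx (sq_eq_one ho)) ho).symm)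

theorem fourType_of {S : Sylow 2 G} (h4 : Nat.card (ctrInv (S : Subgroup G)) = 4)
    (hall : ∀ x ∈ (S : Subgroup G), x * x = 1 → x ∈ ctrInv (S : Subgroup G)) : FourType G := by
  intro T
  obtain ⟨g, rfl⟩ := MulAction.exists_smul_eq G S T
  refine ⟨?_, fun x hx hx2 => ?_⟩
  · rw [← h4]
    refine (Nat.card_congr ((MulAut.conj g).toEquiv.subtypeEquiv fun x => ⟨fun hx =>
      mem_normalizer_conj_sylow g hx, fun hx => ?_⟩)).symm
    have h1 := mem_normalizer_conj_sylow (S := g • S) g⁻¹ hx
    simpa [mul_assoc] using h1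
  · have hx' := H24.CycInt.mem_smul_iff.mp hx
    have h1 := mem_normalizer_conj_sylow g (hall _ hx'
      (by rw [show g⁻¹ * x * g * (g⁻¹ * x * g) = g⁻¹ * (x * x) * g by group, hx2]; group))
    rwa [show g * (g⁻¹ * x * g) * g⁻¹ = x by group] at h1

/-- A bad central involution with solvable centraliser: four central elements of square one. -/
theorem four_of_solvable (hna : ¬ IsMulCommutative G) (h : CI G) (S : Sylow 2 G) {z : G}
    (hzA : z ∈ ctrInv (S : Subgroup G)) (hz : orderOf z = 2) (hbad : ¬ Good z)
    (hsol : Group.IsSolvable ↥(centralizer ({z} : Set G))) :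
    (∀ u : G, orderOf u = 2 → ¬ Good u) ∧ FourType G := by
  classical
  have hS := sylow_not_cyclic_of_perfectSimple hna S
  set A := ctrInv (S : Subgroup G) with hA
  have hno : ∀ E : Subgroup G, E ≤ (S : Subgroup G) → (∀ x ∈ E, x * x = 1) → z ∈ E →
      Nat.card E < 8 := by
    intro E hE hsq hzE
    by_contra hlt
    exact hbad (good_of_centralizer_le h hS hz hzA.1 fun c hc =>
      centralizer_le_of_solvable h hE hsq (not_lt.mp hlt) hz hzE hsol hc)
  have h4 : Nat.card A = 4 := by
    have h1 := four_le_ctrInv hna h S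
    have h2 := hno A (ctrInv_le _) (fun x hx => hx.2.1) hzA
    obtain ⟨k, hk⟩ := IsPGroup.iff_card.mp (S.isPGroup'.to_le (ctrInv_le (S : Subgroup G)))
    rw [← hA] at h1 hk
    rw [hk] at h1 h2 ⊢
    have h3 : k < 3 := by
      by_contra hk3
      exact absurd (Nat.pow_le_pow_right two_pos (not_lt.mp hk3)) (by norm_num; omega)
    interval_cases k <;> simp_all
  have hall : ∀ x ∈ (S : Subgroup G), x * x = 1 → x ∈ A := by
    intro x hx hx2
    by_contra hxA
    have hcomm : ∀ a ∈ A, Commute x a := fun a ha => ha.2.2 x hx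
    let E : Subgroup G :=
      { carrier := {y | y ∈ A ∨ x * y ∈ A}
        one_mem' := Or.inl (one_mem _)
        mul_mem' := by
          rintro a b (ha | ha) (hb | hb)
          · exact Or.inl (mul_mem ha hb)
          · right
            rw [← mul_assoc, (hcomm a ha).eq, mul_assoc]
            exact mul_mem ha hb
          · right
            rw [← mul_assoc]
            exact mul_mem ha hb
          · left
            have e : a = x * (x * a) := by rw [← mul_assoc, hx2, one_mul]
            have e' : b = x * (x * b) := by rw [← mul_assoc, hx2, one_mul]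
            rw [e, e', (hcomm _ ha).symm.mul_mul_mul_comm, hx2, one_mul]
            exact mul_mem ha hb
        inv_mem' := by
          rintro a (ha | ha)
          · exact Or.inl (inv_mem ha)
          · right
            have hi := inv_mem ha
            rw [mul_inv_rev, inv_eq_of_mul_eq_one_right hx2] at hi
            have hc : Commute x a⁻¹ := by
              have := (hcomm _ hi)
              have e : a⁻¹ = a⁻¹ * x * x := by rw [mul_assoc, hx2, mul_one]
              rw [e]
              exact this.mul_right (Commute.refl x)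
            rwa [hc.eq] }
    have hEsq : ∀ y ∈ E, y * y = 1 := by
      rintro y (hy | hy)
      · exact hy.2.1
      · rw [show y = x * (x * y) by rw [← mul_assoc, hx2, one_mul],
          (hcomm _ hy).symm.mul_mul_mul_comm, hx2, one_mul, hy.2.1]
    have hES : E ≤ (S : Subgroup G) := by
      rintro y (hy | hy)
      · exact hy.1
      · rw [show y = x⁻¹ * (x * y) by rw [inv_mul_cancel_left]]
        exact mul_mem (inv_mem hx) hy.1
    have hxE : x ∈ E := Or.inr (by rw [hx2]; exact one_mem _)
    have hAE : A ≤ E := fun a ha => Or.inl ha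
    have h8 : 8 ≤ Nat.card E := by
      obtain ⟨n, hn⟩ := IsPGroup.iff_card.mp (S.isPGroup'.to_le hES)
      have hlt : Nat.card A < Nat.card E := lt_of_le_of_ne (Subgroup.card_le_of_le hAE) fun e =>
        hxA (Subgroup.eq_of_le_of_card_ge hAE e.ge ▸ hxE)
      rw [h4, hn] at hlt
      rw [hn]
      have h3 : 2 < n := by
        by_contra hh
        exact absurd (Nat.pow_le_pow_right two_pos (not_lt.mp hh)) (by norm_num; omega)
      calc 8 = 2 ^ 3 := rfl
        _ ≤ 2 ^ n := Nat.pow_le_pow_right two_pos h3
    exact absurd (hno E hES hEsq (hAE hzA)) (not_lt.mpr h8)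
  refine ⟨all_bad hall hbad ?_, fourType_of h4 hall⟩
  -- the three involutions are conjugate
  intro a ha ha2
  by_contra hconj
  have hz1 : z ≠ 1 := fun e => by rw [e, orderOf_one] at hz; exact absurd hz (by norm_num)
  have ha1 : a ≠ 1 := fun e => by rw [e, orderOf_one] at ha2; exact absurd ha2 (by norm_num)
  obtain ⟨n, hn, hne⟩ := exists_moved_invol hna h S hz hzA.1
  set b := n * z * n⁻¹ with hb
  have hbA : b ∈ A := ctrInv_invariant hn hzA
  have hb1 : b ≠ 1 := fun e => hz1 (conj_eq_one_iff.mp e)
  have hza : z ≠ a := fun e => hconj (e ▸ IsConj.refl z)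
  have hba : b ≠ a := fun e => hconj (e ▸ isConj_iff.mpr ⟨n, rfl⟩)
  obtain ⟨m, hm, hma⟩ := exists_moved_invol hna h S ha2 ha.1
  have hmA : m * a * m⁻¹ ∈ A := ctrInv_invariant hm ha
  have hmem : ∀ x : A, (x : G) = 1 ∨ (x : G) = z ∨ (x : G) = a ∨ (x : G) = b := by
    have hinj : Function.Injective
        ![(1 : A), ⟨z, hzA⟩, ⟨a, ha⟩, ⟨b, hbA⟩] := by
      intro i j e
      fin_cases i <;> fin_cases j <;> simp [Subtype.ext_iff] at e <;>
        first
          | rfl
          | exact absurd e hz1
          | exact absurd e.symm hz1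
          | exact absurd e ha1
          | exact absurd e.symm ha1
          | exact absurd e hb1
          | exact absurd e.symm hb1
          | exact absurd e hza
          | exact absurd e.symm hza
          | exact absurd e hne
          | exact absurd e.symm hne
          | exact absurd e hba
          | exact absurd e.symm hba
    have hbij := (Nat.bijective_iff_injective_and_card _).mpr ⟨hinj, by rw [h4]; simp⟩
    intro x
    obtain ⟨i, hi⟩ := hbij.2 x
    rw [← hi]
    fin_cases i <;> simp
  rcases hmem ⟨_, hmA⟩ with e | e | e | e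
  · exact ha1 (conj_eq_one_iff.mp e)
  · exact hconj (isConj_iff.mpr ⟨m, e⟩).symm
  · exact hma e
  · exact hconj ((isConj_iff.mpr ⟨n, rfl⟩ : IsConj z b).trans (isConj_iff.mpr ⟨m, e⟩).symm)

end Cfsg.Agent.H60.CycInt
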